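import Mathlib

/-!
Finite facts on permutations of six and of five letters used for the normalizer of `J`.
-/

set_option autoImplicit false
set_option maxRecDepth 100000

namespace CfsgLib.McLThree.Six

open Equiv

attribute [local instance 2000] List.decidableBAll List.decidableBEx

/-- `(0 1 2)` -/
def sa : Perm (Fin 6) := swap 0 1 * swap 1 2
/-- `(3 4 5)` -/
def sb : Perm (Fin 6) := swap 3 4 * swap 4 5
/-- `(0 3 1 4)(2 5)` -/
def sc : Perm (Fin 6) := swap 0 3 * swap 3 1 * swap 1 4 * swap 2 5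
/-- `(2 5)(3 4)` -/
def sr : Perm (Fin 6) := swap 2 5 * swap 3 4
/-- `(0 1)(3 4)` -/
def su : Perm (Fin 6) := swap 0 1 * swap 3 4
/-- `(0 3 2)(1 4 5)` -/
def sk : Perm (Fin 6) := swap 0 3 * swap 3 2 * (swap 1 4 * swap 4 5)
/-- `(0 1 3)` -/
def sl : Perm (Fin 6) := swap 0 1 * swap 1 3

/-- The subgroup generated by the two three-cycles, as a list. -/
def pList : List (Perm (Fin 6)) :=
  [1, sa, sa * sa, sb, sa * sb, sa * sa * sb, sb * sb, sa * (sb * sb), sa * sa * (sb * sb)]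

/-- The elements preserving the partition `{0,1,2} {3,4,5}`. -/
def IsBlock (x : Perm (Fin 6)) : Prop :=
  ∀ i j : Fin 6, (i.val < 3 ↔ j.val < 3) → ((x i).val < 3 ↔ (x j).val < 3)

instance (x : Perm (Fin 6)) : Decidable (IsBlock x) := by unfold IsBlock; infer_instance

theorem sign_facts : Perm.sign sa = 1 ∧ Perm.sign sb = 1 ∧ Perm.sign sc = 1 ∧ Perm.sign sr = 1 ∧
    Perm.sign su = 1 ∧ Perm.sign sk = 1 ∧ Perm.sign sl = 1 := by
  decide +kernel

theorem rel_facts : sc * sc = su ∧ sr * sr = 1 ∧ sr * sc * sr⁻¹ * sc = 1 ∧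
    (sr * sc) * (sr * sc) = 1 ∧ (sr * sc) * sc * (sr * sc)⁻¹ * sc = 1 ∧ sr * su * sr⁻¹ = su ∧
    sc * su * sc⁻¹ = su ∧ sk ^ 3 = 1 ∧ sl ^ 3 = 1 ∧
    sk⁻¹ * su * sk = su * sr ∧ sk⁻¹ * sr * sk = su ∧
    sa = sc * sk * sl * sk ∧ sb = sk * sr * sl * sr * sk * sk := by
  decide +kernel

theorem sl_facts : ∀ y : Perm (Fin 6), y = su ∨ y = sr * sc →
    sl⁻¹ * y * sl ∈ [su, sr * sc, su * (sr * sc)] := by
  decide +kernel

theorem mem_pList_conj : sa ∈ pList ∧ sb ∈ pList ∧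
    (∀ x ∈ pList, sc * x * sc⁻¹ ∈ pList) ∧
    (∀ x ∈ pList, su * x * su⁻¹ = x⁻¹) ∧
    sr * sa * sr⁻¹ ∉ pList ∧ (sr * sc) * sa * (sr * sc)⁻¹ ∉ pList ∧
    ∀ x ∈ pList, sr * x * sr⁻¹ ∈ pList → x = 1 := by
  decide +kernel

theorem block_of_conj : ∀ x : Perm (Fin 6), x * sa * x⁻¹ ∈ pList → x * sb * x⁻¹ ∈ pList →
    IsBlock x := by
  decide +kernel

theorem conj_of_block : ∀ x : Perm (Fin 6), IsBlock x → ∀ y ∈ pList, x * y * x⁻¹ ∈ pList := by
  decide +kernel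

theorem centraliser_split : ∀ x : Perm (Fin 6), Perm.sign x = 1 → IsBlock (x⁻¹ * su * x) →
    IsBlock x ∨ IsBlock (sr⁻¹ * x) := by
  decide +kernel

theorem involution_block : ∀ x : Perm (Fin 6), Perm.sign x = 1 → x * x = 1 → x ≠ 1 → IsBlock x →
    ∃ p ∈ pList, p * x * p⁻¹ = su := by
  decide +kernel

/-- `(0 1 2)` on five letters -/
def fa : Perm (Fin 5) := swap 0 1 * swap 1 2
/-- `(0 1 2 3 4)` -/
def fb : Perm (Fin 5) := swap 0 1 * swap 1 2 * swap 2 3 * swap 3 4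
/-- `(1 2)(3 4)` -/
def fk : Perm (Fin 5) := swap 1 2 * swap 3 4

theorem five_facts : Perm.sign fa = 1 ∧ Perm.sign fb = 1 ∧ Perm.sign fk = 1 ∧
    fk * fa * fk⁻¹ = fa⁻¹ ∧ fk * fk = 1 ∧ fk ≠ 1 ∧ fb ^ 5 = 1 ∧ (fa * fb) ^ 5 = 1 ∧
    (fa⁻¹ * fb) ^ 3 = 1 ∧ fa ^ 3 = 1 ∧ fa ≠ 1 := by
  decide +kernel

theorem five_conj : ∀ a : Perm (Fin 5), a ^ 3 = 1 → a ≠ 1 →
    ∃ σ : Perm (Fin 5), σ * a * σ⁻¹ = fa := by
  decide +kernel

theorem five_pin : ∀ y : Perm (Fin 5), y ^ 5 = 1 → (fa * y) ^ 5 = 1 → (fa⁻¹ * y) ^ 3 = 1 →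
    ∃ π : Perm (Fin 5), π * fa * π⁻¹ = fa ∧ π * fb * π⁻¹ = y := by
  decide +kernel

theorem five_even_comm : ∀ π : Perm (Fin 5), π * fa * π⁻¹ = fa → Perm.sign π = 1 →
    π = 1 ∨ π = fa ∨ π = fa * fa := by
  decide +kernel

theorem five_commutator : ∃ x y : Perm (Fin 5), Perm.sign x = 1 ∧ Perm.sign y = 1 ∧
    x * y * x⁻¹ * y⁻¹ = fk := by
  decide +kernel

theorem five_centre : ∀ x : Perm (Fin 5), x * fa = fa * x → x * fb = fb * x → x = 1 := by
  decide +kernel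

theorem five_sign : ∀ x : Perm (Fin 5), Perm.sign x = 1 ∨ Perm.sign x = -1 := by
  decide +kernel

/-- The products of at most `n` factors `fa` and `fb`. -/
def reach : ℕ → Finset (Perm (Fin 5))
  | 0 => {1}
  | n + 1 => reach n ∪ (reach n).image (· * fa) ∪ (reach n).image (· * fb)

theorem reach_top : ∀ x : Perm (Fin 5), Perm.sign x = 1 → x ∈ reach 10 := by
  decide +kernel

theorem five_gen (H : Subgroup (Perm (Fin 5))) (ha : fa ∈ H) (hb : fb ∈ H) :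
    ∀ x : Perm (Fin 5), Perm.sign x = 1 → x ∈ H := by
  have h : ∀ n, ∀ x ∈ reach n, x ∈ H := by
    intro n
    induction n with
    | zero => intro x hx; rw [reach, Finset.mem_singleton] at hx; rw [hx]; exact one_mem H
    | succ n ih =>
      intro x hx
      simp only [reach, Finset.mem_union, Finset.mem_image] at hx
      rcases hx with (hx | ⟨y, hy, rfl⟩) | ⟨y, hy, rfl⟩
      · exact ih x hx
      · exact mul_mem (ih y hy) ha
      · exact mul_mem (ih y hy) hb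
  exact fun x hx => h 10 x (reach_top x hx)

end CfsgLib.McLThree.Six
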