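import Cfsg.Agent.Lib.McLThree.Six.JBasic

/-!
The identification of the quotient of the normalizer of `J` by `J`, normalised at `Q` and `t`.
-/

set_option autoImplicit false
set_option linter.unusedSectionVars false

namespace CfsgLib.McLThree.Six

open Subgroup Equiv

universe u

variable {G : Type u} [Group G]

attribute [local instance 2000] List.decidableBAll List.decidableBEx

theorem card_subOf {H K : Subgroup G} (h : H ≤ K) : Nat.card ↥(H.subgroupOf K) = Nat.card ↥H :=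
  Nat.card_congr (subgroupOfEquivOfLe h).toEquiv

/-- A map of a subgroup of the normalizer of `J` onto the alternating group of degree six. -/
structure Pre (D : Top G) where
  M : Subgroup G
  JM : D.J ≤ M
  MN : M ≤ normalizer (D.J : Set G)
  NM : normalizer (D.J : Set G) ≤ normalizer (M : Set G)
  cardJ : Nat.card ↥D.J = 81
  three : ∀ R : Subgroup G, IsPGroup 3 R → R ≤ normalizer (D.J : Set G) → R ≤ M
  SM : SS D ≤ M
  ψ : ↥M →* Perm (Fin 6)
  even : ∀ m, Perm.sign (ψ m) = 1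
  surj : ∀ p, Perm.sign p = 1 → ∃ m, ψ m = p
  ker : ∀ m, ψ m = 1 ↔ (m : G) ∈ D.J
  memS : ∀ m : ↥M, (m : G) ∈ SS D ↔ ψ m ∈ pList

theorem pList_closed : (∀ x ∈ pList, ∀ y ∈ pList, x * y ∈ pList) ∧
    (∀ x ∈ pList, x⁻¹ ∈ pList) ∧ (1 : Perm (Fin 6)) ∈ pList ∧ pList.Nodup ∧ pList.length = 9 ∧
    (∀ x ∈ pList, Perm.sign x = 1) := by
  decide +kernel

/-- The subgroup of the elements of `pList`. -/
def pGrp : Subgroup (Perm (Fin 6)) where
  carrier := {x | x ∈ pList}
  one_mem' := pList_closed.2.2.1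
  mul_mem' := fun ha hb => pList_closed.1 _ ha _ hb
  inv_mem' := fun ha => pList_closed.2.1 _ ha

theorem mem_pGrp {x : Perm (Fin 6)} : x ∈ pGrp ↔ x ∈ pList := Iff.rfl

theorem card_pGrp : Nat.card ↥pGrp = 9 := by
  rw [← pList_closed.2.2.2.2.1, ← List.toFinset_card_of_nodup pList_closed.2.2.2.1,
    ← Nat.card_eq_finsetCard]
  exact Nat.card_congr (Equiv.subtypeEquivRight fun x => by simp [mem_pGrp])

theorem three_sub_le {S : Subgroup (Perm (Fin 6))} (h : IsPGroup 3 S) : Nat.card S ≤ 9 := by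
  obtain ⟨k, hk⟩ := IsPGroup.iff_card.1 h
  have h1 : 3 ^ k ∣ 720 := by
    rw [← hk]; convert S.card_subgroup_dvd_card using 1
    rw [Nat.card_eq_fintype_card, Fintype.card_perm]; rfl
  have h2 : k ≤ 2 := by
    by_contra hc
    exact absurd ((pow_dvd_pow 3 (show 3 ≤ k by omega)).trans h1) (by norm_num)
  calc Nat.card S = 3 ^ k := hk
    _ ≤ 3 ^ 2 := Nat.pow_le_pow_right (by norm_num) h2

theorem conj_to_pGrp {S : Subgroup (Perm (Fin 6))} (h : IsPGroup 3 S) (hc : Nat.card S = 9) :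
    ∃ σ : Perm (Fin 6), S.map (MulAut.conj σ).toMonoidHom = pGrp := by
  have _ : Fact (Nat.Prime 3) := ⟨Nat.prime_three⟩
  have hp : IsPGroup 3 pGrp := IsPGroup.of_card (n := 2) (by rw [card_pGrp]; rfl)
  obtain ⟨P, hP⟩ := h.exists_le_sylow
  obtain ⟨R, hR⟩ := hp.exists_le_sylow
  have eP : (P : Subgroup (Perm (Fin 6))) = S :=
    (eq_of_le_of_card_ge hP (hc ▸ three_sub_le P.2)).symm
  have eR : (R : Subgroup (Perm (Fin 6))) = pGrp :=
    (eq_of_le_of_card_ge hR (card_pGrp ▸ three_sub_le R.2)).symm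
  obtain ⟨σ, hσ⟩ := MulAction.exists_smul_eq (Perm (Fin 6)) P R
  refine ⟨σ, ?_⟩
  rw [← eR, ← eP, ← hσ, Sylow.coe_subgroup_smul]
  rfl

variable [Finite G]

theorem p_le_729 (D : Top G) {R : Subgroup G} (h : IsPGroup 3 R) : Nat.card R ≤ 729 := by
  have _ : Fact (Nat.Prime 3) := ⟨Nat.prime_three⟩
  obtain ⟨k, hk⟩ := IsPGroup.iff_card.1 h
  have h2 : k ≤ 6 := by
    by_contra hc
    refine D.syl.2 ((pow_dvd_pow 3 (show 7 ≤ k by omega)).trans ?_)
    rw [← hk]; exact card_subgroup_dvd_card R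
  calc Nat.card R = 3 ^ k := hk
    _ ≤ 3 ^ 6 := Nat.pow_le_pow_right (by norm_num) h2

theorem SS_pgroup (D : Top G) : IsPGroup 3 ↥(SS D) :=
  IsPGroup.to_sup_of_normal_left' (IsPGroup.of_card (n := 5) (by rw [D.cardQ]))
    (IsPGroup.of_card (n := 1) (by rw [Nat.card_zpowers, D.ord_a, pow_one]))
    (zpowers_le.2 (a_normQ D))

theorem card_SS (D : Top G) : Nat.card ↥(SS D) = 729 := by
  have _ : Fact (Nat.Prime 3) := ⟨Nat.prime_three⟩
  obtain ⟨k, hk⟩ := IsPGroup.iff_card.1 (SS_pgroup D)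
  have h2 := card_SS_le D
  have h1 : Nat.card ↥D.Q < Nat.card ↥(SS D) := lt_of_le_of_ne
    (Nat.le_of_dvd Nat.card_pos (card_dvd_of_le (Q_le_SS D))) fun h =>
    D.a_notQ (by
      rw [eq_of_le_of_card_ge (Q_le_SS D) h.ge]
      exact le_sup_right (a := D.Q) (mem_zpowers _))
  rw [D.cardQ] at h1
  rw [hk] at h1 h2 ⊢
  have : k = 6 := by
    have a1 : 5 < k := (Nat.pow_lt_pow_iff_right (show 1 < 3 by norm_num)).1 h1
    have a2 : k ≤ 6 := (Nat.pow_le_pow_iff_right (show 1 < 3 by norm_num)).1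
      (show 3 ^ k ≤ 3 ^ 6 from h2)
    omega
  rw [this]; rfl

/-- The identification exists. -/
theorem exists_pre {Z J Q : Subgroup G} (h : Hyp G Z J Q) (D : Top G) (hJ : D.J = J) :
    Nonempty (Pre D) := by
  have _ : Fact (Nat.Prime 3) := ⟨Nat.prime_three⟩
  subst hJ
  obtain ⟨M, hJM, hMN, hNM, ψ₀, hψs, hψk⟩ := h.six
  have hker : ∀ m : ↥M, ψ₀ m = 1 ↔ (m : G) ∈ D.J := fun m => by
    rw [← MonoidHom.mem_ker, hψk, mem_subgroupOf]
  have hcardM : Nat.card ↥M = 81 * 360 := by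
    rw [← ψ₀.ker.card_mul_index, hψk, ← hψk, index_ker,
      MonoidHom.range_eq_top.2 hψs, card_top, hψk, card_subOf hJM, h.cardJ,
      Nat.card_eq_fintype_card, card_alternatingGroup]
    rfl
  have hthree : ∀ R : Subgroup G, IsPGroup 3 R → R ≤ normalizer (D.J : Set G) → R ≤ M := by
    intro R hR hRN
    set N := normalizer (D.J : Set G)
    have hMn : (M.subgroupOf N).Normal := (normal_subgroupOf_iff_le_normalizer hMN).2 hNM
    have h1 : Nat.card ↥M * M.relIndex N = Nat.card ↥N := card_mul_rel hMN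
    have hcop : ¬ 3 ∣ M.relIndex N := by
      rintro ⟨c, hc⟩
      refine D.syl.2 (Dvd.dvd.trans ?_ (card_subgroup_dvd_card N))
      rw [← h1, hcardM, hc]
      exact ⟨40 * c, by ring⟩
    intro r hr
    have hrN := hRN hr
    obtain ⟨k, hk⟩ := hR ⟨r, hr⟩
    have e1 : ((QuotientGroup.mk' (M.subgroupOf N)) ⟨r, hrN⟩) ^ 3 ^ k = 1 := by
      rw [← map_pow, show (⟨r, hrN⟩ : ↥N) ^ 3 ^ k = 1 from
        Subtype.ext (by simpa using congrArg Subtype.val hk), map_one]
    have e2 := orderOf_dvd_natCard ((QuotientGroup.mk' (M.subgroupOf N)) ⟨r, hrN⟩)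
    rw [← index_eq_card] at e2
    have e3 := Nat.eq_one_of_dvd_coprimes
      (Nat.Coprime.pow_left k ((Nat.prime_three.coprime_iff_not_dvd).2 hcop))
      (orderOf_dvd_of_pow_eq_one e1) e2
    rw [orderOf_eq_one_iff, QuotientGroup.mk'_apply, QuotientGroup.eq_one_iff] at e3
    exact e3
  have hSM : SS D ≤ M := hthree _ (SS_pgroup D) (SS_le_norm D)
  let ψ₁ : ↥M →* Perm (Fin 6) := (alternatingGroup (Fin 6)).subtype.comp ψ₀
  have hker1 : ∀ m, ψ₁ m = 1 ↔ (m : G) ∈ D.J := fun m => by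
    rw [← hker m]; exact OneMemClass.coe_eq_one
  set I : Subgroup (Perm (Fin 6)) := ((SS D).subgroupOf M).map ψ₁ with hI
  have hIp : IsPGroup 3 I := ((SS_pgroup D).of_equiv (subgroupOfEquivOfLe hSM).symm).map ψ₁
  have hcardI : Nat.card I = 9 := by
    let φ := ψ₁.comp ((SS D).subgroupOf M).subtype
    have hr : φ.range = I := by rw [hI, MonoidHom.range_comp, range_subtype]
    have h1 := φ.ker.card_mul_index
    rw [index_ker, hr, card_subOf hSM, card_SS D] at h1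
    have h2 : Nat.card ↥φ.ker = 81 := by
      refine Eq.trans ?_ (h.cardJ.trans (by norm_num))
      refine Nat.card_congr
        { toFun := fun x => ⟨((x : ↥((SS D).subgroupOf M)) : ↥M), (hker1 _).1 x.2⟩
          invFun := fun j => ⟨⟨⟨j, hJM j.2⟩, J_le_SS D j.2⟩, (hker1 _).2 j.2⟩
          left_inv := fun _ => rfl
          right_inv := fun _ => rfl }
    rw [h2] at h1
    omega
  obtain ⟨σ, hσ⟩ := conj_to_pGrp hIp hcardI
  let ψ : ↥M →* Perm (Fin 6) := (MulAut.conj σ).toMonoidHom.comp ψ₁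
  refine ⟨{ M := M, JM := hJM, MN := hMN, NM := hNM, cardJ := h.cardJ, three := hthree,
            SM := hSM, ψ := ψ, even := ?_, surj := ?_, ker := ?_, memS := ?_ }⟩
  · intro m
    show Perm.sign (σ * ψ₁ m * σ⁻¹) = 1
    have : Perm.sign (ψ₁ m) = 1 := Perm.mem_alternatingGroup.1 (ψ₀ m).2
    simp [this]
  · intro p hp
    obtain ⟨m, hm⟩ := hψs ⟨σ⁻¹ * p * σ, Perm.mem_alternatingGroup.2 (by simp [hp])⟩
    refine ⟨m, ?_⟩
    show σ * (ψ₀ m : Perm (Fin 6)) * σ⁻¹ = p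
    rw [hm]
    group
  · intro m
    show σ * ψ₁ m * σ⁻¹ = 1 ↔ _
    rw [conj_eq_one_iff]; exact hker1 m
  · intro m
    rw [← mem_pGrp, ← hσ]
    constructor
    · intro hm
      exact mem_map_of_mem _ (mem_map_of_mem _ (mem_subgroupOf.2 hm))
    · rintro ⟨y, ⟨s, hs, rfl⟩, he⟩
      have e : ψ₁ (s⁻¹ * m) = 1 := by
        rw [map_mul, map_inv, inv_mul_eq_one]
        exact (MulAut.conj σ).injective he
      have hj := J_le_SS D ((hker1 _).1 e)
      have := mul_mem (mem_subgroupOf.1 hs) hj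
      simpa using this

end CfsgLib.McLThree.Six
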