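import Cfsg.Agent.Lib.McLThree.Six.Quad

/-!
The subgroups `J` and `Q ⊔ J`.
-/

set_option autoImplicit false
set_option linter.unusedSectionVars false

namespace CfsgLib.McLThree.Six

open Subgroup
open scoped Pointwise

universe u

variable {G : Type u} [Group G] (D : Top G)

theorem J_eq : D.J = FF D ⊔ zpowers D.a := rfl

theorem FF_le_J : FF D ≤ D.J := le_sup_left

theorem a_mem_J : D.a ∈ D.J := le_sup_right (a := D.Q ⊓ centralizer ({D.a} : Set G)) (mem_zpowers _)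

theorem z_mem_J : D.z ∈ D.J := FF_le_J D (z_mem_FF D)

theorem J_comm {x y : G} (hx : x ∈ D.J) (hy : y ∈ D.J) : Commute x y := by
  have h : IsMulCommutative ↥(closure ((FF D : Set G) ∪ {D.a})) := by
    refine isMulCommutative_closure ?_
    rintro u (hu | hu) v (hv | hv)
    · exact (FF_comm D hu hv).eq
    · rw [hv]; exact (a_comm_FF D hu).symm.eq
    · rw [hu]; exact (a_comm_FF D hv).eq
    · rw [hu, hv]
  rw [J_eq, zpowers_eq_closure, show FF D = closure (FF D : Set G) from (closure_eq _).symm,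
    ← Subgroup.closure_union] at hx hy
  exact congrArg Subtype.val (h.is_comm.comm (⟨x, hx⟩ : ↥(closure ((FF D : Set G) ∪ {D.a}))) ⟨y, hy⟩)

theorem mem_FF_of_commJ {x : G} (h : x ∈ D.J) (hQ : x ∈ D.Q) : x ∈ FF D :=
  (mem_FF D).2 ⟨hQ, J_comm D (a_mem_J D) h⟩

variable [Finite G]

theorem a_pow_cases {x : G} (hx : x ∈ zpowers D.a) : x = 1 ∨ x = D.a ∨ x = D.a⁻¹ := by
  obtain ⟨n, hn⟩ := mem_powers_iff_mem_zpowers.2 hx
  replace hn : D.a ^ n = x := hn
  rw [← hn, ← pow_mod_orderOf, D.ord_a]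
  rcases (show n % 3 = 0 ∨ n % 3 = 1 ∨ n % 3 = 2 by omega) with h | h | h <;> rw [h]
  · exact Or.inl (pow_zero _)
  · exact Or.inr (Or.inl (pow_one _))
  · exact Or.inr (Or.inr (eq_inv_of_mul_eq_one_left (by rw [← pow_succ, a3])))

theorem a_inv_notQ : D.a⁻¹ ∉ D.Q := fun h => D.a_notQ (by simpa using inv_mem h)

theorem FF_normJ_a : zpowers D.a ≤ normalizer (FF D : Set G) :=
  zpowers_le.2 (mem_normalizer_fintype fun x hx => by
    show D.a * x * D.a⁻¹ ∈ FF D
    rw [(a_comm_FF D hx).eq, mul_inv_cancel_right]; exact hx)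

theorem mem_J {x : G} (h : x ∈ D.J) : ∃ f ∈ FF D, ∃ b ∈ zpowers D.a, x = f * b := by
  have : (D.J : Set G) = (FF D : Set G) * (zpowers D.a : Set G) := by
    rw [J_eq]; exact coe_mul_of_right_le_normalizer_left _ _ (FF_normJ_a D)
  have h' : x ∈ (D.J : Set G) := h
  rw [this] at h'
  obtain ⟨f, hf, b, hb, rfl⟩ := Set.mem_mul.1 h'
  exact ⟨f, hf, b, hb, rfl⟩

theorem mem_J_cases {x : G} (h : x ∈ D.J) :
    x ∈ FF D ∨ (∃ f ∈ FF D, x = D.a * f) ∨ ∃ f ∈ FF D, x = D.a⁻¹ * f := by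
  obtain ⟨f, hf, b, hb, rfl⟩ := mem_J D h
  rcases a_pow_cases D hb with rfl | rfl | rfl
  · exact Or.inl (by simpa using hf)
  · exact Or.inr (Or.inl ⟨f, hf, (a_comm_FF D hf).symm.eq⟩)
  · exact Or.inr (Or.inr ⟨f, hf, (a_comm_FF D hf).inv_left.symm.eq⟩)

theorem Q_normJ {q : G} (hq : q ∈ D.Q) : q ∈ normalizer (D.J : Set G) := by
  refine mem_normalizer_fintype fun x hx => ?_
  obtain ⟨f, hf, b, hb, rfl⟩ := mem_J D hx
  rw [cmul]
  refine mul_mem ?_ ?_
  · rw [conjQ_eq D hq (FF_le D hf)]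
    exact mul_mem (FF_le_J D (zp_FF D (com_mem D hq (FF_le D hf)))) (FF_le_J D hf)
  · have ha : q * D.a * q⁻¹ ∈ D.J := by
      rw [show q * D.a * q⁻¹ = (fa' D q)⁻¹ * D.a by simp only [fa', com]; group]
      exact mul_mem (inv_mem (FF_le_J D (fa_memFF D hq))) (a_mem_J D)
    obtain ⟨n, rfl⟩ := mem_zpowers_iff.1 hb
    rw [← conj_zpow]
    exact zpow_mem ha n

theorem t_commQz {q : G} (hq : q ∈ FF D) (h : Commute D.t q) : q ∈ zpowers D.z := by
  have h1 := D.tQ q (FF_le D hq)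
  rw [h.eq, mul_inv_cancel_right] at h1
  have h3 := cubeQ D (FF_le D hq)
  have h2 : q = q * q * (q * q) := by
    calc q = q ^ 3 * q := by rw [h3, one_mul]
      _ = q * q * (q * q) := by rw [pow_succ, pow_two]; group
  rw [h2]; exact mul_mem h1 h1

/-- The fixed points of `t` in `J`. -/
theorem mem_J_t {x : G} (hx : x ∈ D.J) (ht : Commute D.t x) :
    ∃ c ∈ zpowers D.z, x = c ∨ x = D.a * c ∨ x = D.a⁻¹ * c := by
  rcases mem_J_cases D hx with h | ⟨f, hf, rfl⟩ | ⟨f, hf, rfl⟩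
  · exact ⟨x, t_commQz D h ht, Or.inl rfl⟩
  · refine ⟨f, t_commQz D hf ?_, Or.inr (Or.inl rfl)⟩
    simpa using (D.ta.inv_right).mul_right ht
  · refine ⟨f, t_commQz D hf ?_, Or.inr (Or.inr rfl)⟩
    simpa using D.ta.mul_right ht

theorem mem_J_centQ {x : G} (hx : x ∈ D.J) (h : ∀ q ∈ D.Q, Commute x q) : x ∈ zpowers D.z := by
  have hQ : x ∈ D.Q := D.centQ (mem_centralizer_iff.2 fun q hq => (h q hq).eq.symm)
  exact D.centerQ x hQ h

/-- The Sylow subgroup containing `Q` and `J`. -/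
def SS : Subgroup G := D.Q ⊔ zpowers D.a

theorem Q_le_SS : D.Q ≤ SS D := le_sup_left

theorem J_le_SS : D.J ≤ SS D :=
  sup_le ((FF_le D).trans le_sup_left) le_sup_right

theorem SS_le_norm : SS D ≤ normalizer (D.J : Set G) :=
  sup_le (fun _ hq => Q_normJ D hq)
    (zpowers_le.2 (le_normalizer (a_mem_J D)))

theorem mem_SS {x : G} (h : x ∈ SS D) : ∃ q ∈ D.Q, ∃ b ∈ zpowers D.a, x = q * b := by
  have : (SS D : Set G) = (D.Q : Set G) * (zpowers D.a : Set G) :=
    coe_mul_of_right_le_normalizer_left _ _ (zpowers_le.2 (a_normQ D))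
  have h' : x ∈ (SS D : Set G) := h
  rw [this] at h'
  obtain ⟨q, hq, b, hb, rfl⟩ := Set.mem_mul.1 h'
  exact ⟨q, hq, b, hb, rfl⟩

theorem card_SS_le : Nat.card ↥(SS D) ≤ 729 := by
  have h : Function.Surjective (fun p : ↥D.Q × ↥(zpowers D.a) =>
      (⟨p.1 * p.2, mul_mem (le_sup_left (b := zpowers D.a) p.1.2)
        (le_sup_right (a := D.Q) p.2.2)⟩ : ↥(SS D))) := fun x => by
    obtain ⟨q, hq, b, hb, h⟩ := mem_SS D x.2
    exact ⟨(⟨q, hq⟩, ⟨b, hb⟩), Subtype.ext h.symm⟩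
  have := Nat.card_le_card_of_surjective _ h
  rwa [Nat.card_prod, D.cardQ, Nat.card_zpowers, D.ord_a] at this

theorem card_mul_rel {A B : Subgroup G} (h : A ≤ B) :
    Nat.card ↥A * A.relIndex B = Nat.card ↥B := by
  rw [← relIndex_bot_left (H := A), relIndex_mul_relIndex _ _ _ bot_le h, relIndex_bot_left]

/-- `J` is the only abelian subgroup of order `81` of `SS`. -/
theorem unique_abelian {A : Subgroup G} (hA : A ≤ SS D) (hab : ∀ x ∈ A, ∀ y ∈ A, Commute x y)
    (hcard : Nat.card A = 81) (hJ : Nat.card ↥D.J = 81) : A = D.J := by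
  obtain ⟨x, hxA, hxQ⟩ := SetLike.not_le_iff_exists.1 fun h => no81 D A h hab hcard.ge
  obtain ⟨q, hq, b, hb, rfl⟩ := mem_SS D (hA hxA)
  have hbQ : b ∉ D.Q := fun h => hxQ (mul_mem hq h)
  have hsub : A ⊓ D.Q ≤ FF D := by
    rintro y ⟨hyA, hyQ⟩
    have h1 : b * y * b⁻¹ * y⁻¹ = com q⁻¹ y := by
      have h := mul_inv_eq_iff_eq_mul.2 (hab _ hxA _ hyA).eq
      calc b * y * b⁻¹ * y⁻¹ = q⁻¹ * (q * b * y * (q * b)⁻¹) * q * y⁻¹ := by group
        _ = com q⁻¹ y := by rw [h]; simp only [com]; group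
    have h2 := com_mem D (inv_mem hq) hyQ
    rw [← h1] at h2
    refine fa_fix D hyQ ?_
    rcases a_pow_cases D hb with rfl | rfl | rfl
    · exact absurd (one_mem _) hbQ
    · exact h2
    · have e : fa' D y = D.a * (D.a⁻¹ * y * D.a⁻¹⁻¹ * y⁻¹)⁻¹ * D.a⁻¹ := by
        simp only [fa', com]; group
      rw [e, (zp_a D (inv_mem h2)).eq, mul_inv_cancel_right]
      exact inv_mem h2
  have hrel : D.Q.relIndex A ≤ 3 := by
    have h1 : Nat.card ↥D.Q * D.Q.relIndex (SS D) = Nat.card ↥(SS D) :=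
      card_mul_rel (Q_le_SS D)
    have h2 := card_SS_le D
    rw [D.cardQ] at h1
    have h4 : D.Q.relIndex A ≤ D.Q.relIndex (SS D) :=
      relIndex_le_of_le_right hA (index_ne_zero_of_finite)
    omega
  have h27 : Nat.card ↥(FF D) = 27 := D.fix_a.1
  have hAQ : Nat.card ↥(A ⊓ D.Q) * D.Q.relIndex A = 81 := by
    rw [← hcard, ← card_mul_rel (inf_le_left : A ⊓ D.Q ≤ A), inf_relIndex_left]
  have hle : Nat.card ↥(A ⊓ D.Q) ≤ 27 := h27 ▸ Nat.le_of_dvd Nat.card_pos (card_dvd_of_le hsub)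
  have hFA : FF D ≤ A := by
    have he : A ⊓ D.Q = FF D := by
      refine eq_of_le_of_card_ge hsub ?_
      rw [h27]
      nlinarith [hAQ, hrel, hle]
    exact he ▸ inf_le_left
  have hle' : A ≤ D.J := by
    intro w hw
    obtain ⟨q', hq', b', hb', rfl⟩ := mem_SS D (hA hw)
    refine mul_mem (FF_le_J D (mem_FF_of_comm D hq' fun f hf => ?_)) (le_sup_right (a := D.Q ⊓
      centralizer ({D.a} : Set G)) hb')
    obtain ⟨n, rfl⟩ := mem_zpowers_iff.1 hb'
    have h1 := hab _ hw _ (hFA hf)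
    simpa using h1.mul_left (((a_comm_FF D hf).zpow_left n).inv_left)
  exact eq_of_le_of_card_ge hle' (by rw [hcard, hJ])

/-- An element centralising `J` of order prime to three is trivial. -/
theorem centJ_coprime {x : G} (hx : ∀ j ∈ D.J, Commute x j) (hord : ¬ 3 ∣ orderOf x) : x = 1 := by
  have hxN : x ∈ normalizer (D.Q : Set G) :=
    normQ D (Or.inl (mul_inv_eq_iff_eq_mul.2 (hx _ (z_mem_J D)).eq))
  have hxa : Commute x D.a := hx _ (a_mem_J D)
  have hcop : (orderOf x).Coprime 3 := ((Nat.prime_three.coprime_iff_not_dvd).2 hord).symm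
  have hcentQ : ∀ q ∈ D.Q, Commute x q := by
    intro q hq
    set g := x * q * x⁻¹ * q⁻¹ with hg
    have hgQ : g ∈ D.Q := mul_mem (conj_memQ D hxN hq) (inv_mem hq)
    have hfq := fa_memFF D hq
    have hgF : g ∈ FF D := by
      refine fa_fix D hgQ ?_
      have h1 : fa' D (g * q) = fa' D q := by
        have e : x * fa' D q * x⁻¹ = fa' D q :=
          mul_inv_eq_iff_eq_mul.2 (hx _ (FF_le_J D hfq)).eq
        have e2 : x * fa' D q * x⁻¹ = fa' D (g * q) := by
          rw [fa', com_conj, mul_inv_eq_iff_eq_mul.2 hxa.eq]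
          simp [hg, fa']
        rw [← e2, e]
      rw [fa_mul D hgQ hq, ← mul_assoc] at h1
      have h2 : com g (fa' D q) * fa' D g = 1 := mul_eq_right.1 h1
      rw [eq_inv_of_mul_eq_one_right h2]
      exact inv_mem (com_mem D hgQ (FF_le D hfq))
    have hxg : Commute x g := hx _ (FF_le_J D hgF)
    have hn : ∀ n : ℕ, x ^ n * q * (x ^ n)⁻¹ = g ^ n * q := by
      intro n
      induction n with
      | zero => simp
      | succ n ih =>
        calc x ^ (n + 1) * q * (x ^ (n + 1))⁻¹ = x * (x ^ n * q * (x ^ n)⁻¹) * x⁻¹ := by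
              rw [pow_succ']; group
          _ = x * (g ^ n * q) * x⁻¹ := by rw [ih]
          _ = (x * g ^ n * x⁻¹) * (x * q * x⁻¹) := cmul x _ q
          _ = g ^ n * (g * q) := by
            rw [mul_inv_eq_iff_eq_mul.2 (hxg.pow_right n).eq,
              show x * q * x⁻¹ = g * q from (inv_mul_cancel_right _ q).symm]
          _ = g ^ (n + 1) * q := by rw [pow_succ, mul_assoc (g ^ n) g q]
    have h1 := hn (orderOf x)
    rw [pow_orderOf_eq_one] at h1
    have hg1 : g ^ orderOf x = 1 := by simpa using h1.symm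
    have h3 : g ^ (3 : ℕ) = 1 := cubeQ D hgQ
    have : g = 1 := orderOf_eq_one_iff.1 (Nat.eq_one_of_dvd_coprimes hcop
      (orderOf_dvd_of_pow_eq_one hg1) (orderOf_dvd_of_pow_eq_one h3))
    exact mul_inv_eq_iff_eq_mul.1 (mul_inv_eq_one.1 this)
  have hxQ : x ∈ D.Q := D.centQ (mem_centralizer_iff.2 fun q hq => (hcentQ q hq).eq.symm)
  exact orderOf_eq_one_iff.1 (Nat.eq_one_of_dvd_coprimes hcop dvd_rfl
    (orderOf_dvd_of_pow_eq_one (cubeQ D hxQ)))

end CfsgLib.McLThree.Six
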