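import Cfsg.Agent.Lib.McLThree.Six.Sym

/-!
The lines of `⟨z, a⟩` in the orbit of `⟨z⟩`, and the elements `c` and `g`.
-/

set_option autoImplicit false
set_option linter.unusedSectionVars false

namespace CfsgLib.McLThree.Six

open Subgroup Equiv
open scoped Pointwise

universe u

variable {G : Type u} [Group G] [Finite G] {D : Top G} (P : Model D)

theorem t_normSS : D.t ∈ normalizer (SS D : Set G) :=
  normSS_of Pre.t_normJ (normQ D (Or.inl (mul_inv_eq_iff_eq_mul.2 D.tz.eq)))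

theorem lift (p : Perm (Fin 6)) (hp : Perm.sign p = 1) (hc : p * su * p⁻¹ = su) :
    ∃ m : ↥P.M, P.ψ m = p ∧ Commute (m : G) D.t := by
  obtain ⟨m₀, hm₀⟩ := P.surj p hp
  set x : ↥P.M := ⟨D.t, P.tM⟩ * (m₀ * ⟨D.t, P.tM⟩ * m₀⁻¹) with hx
  have hψ : P.ψ x = 1 := by
    rw [hx, map_mul, map_mul, map_mul, map_inv, hm₀, P.tu, hc, ← rel_facts.1, ← mul_assoc]
    decide
  have hxJ : (x : G) ∈ D.J := (P.ker x).1 hψ
  refine ⟨x⁻¹ * m₀, by rw [map_mul, map_inv, hψ, inv_one, one_mul, hm₀], ?_⟩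
  set j : G := (x : G) with hj
  have hje : (m₀ : G) * D.t * (m₀ : G)⁻¹ = D.t * j := by
    rw [hj, hx]
    simp only [Subgroup.coe_mul, Subgroup.coe_inv]
    rw [← mul_assoc, tt, one_mul]
  have h1 : (D.t * j) * (D.t * j) = 1 := by
    rw [← hje, ← cmul, tt, mul_one, mul_inv_cancel]
  have h3 : j ^ 3 = 1 := by
    obtain ⟨f, hf, b, hb, he⟩ := mem_J D hxJ
    obtain ⟨n, rfl⟩ := mem_zpowers_iff.1 hb
    rw [he, ((a_comm_FF D hf).zpow_left n).symm.mul_pow, cubeQ D (FF_le D hf), one_mul,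
      ← zpow_natCast (D.a ^ n) 3, ← zpow_mul, mul_comm, zpow_mul, zpow_natCast, a3, one_zpow]
  have h2 : j⁻¹ * D.t = D.t * j := by
    calc j⁻¹ * D.t = j⁻¹ * D.t * 1 := (mul_one _).symm
      _ = j⁻¹ * (D.t * D.t) * j * D.t * j := by rw [← h1]; group
      _ = D.t * j := by rw [tt]; group
  show Commute ((x⁻¹ * m₀ : ↥P.M) : G) D.t
  refine mul_inv_eq_iff_eq_mul.1 ?_
  calc ((x⁻¹ * m₀ : ↥P.M) : G) * D.t * ((x⁻¹ * m₀ : ↥P.M) : G)⁻¹
      = j⁻¹ * ((m₀ : G) * D.t * (m₀ : G)⁻¹) * j := by simp [hj, mul_assoc]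
    _ = j⁻¹ * (D.t * j) * j := by rw [hje]
    _ = j⁻¹ * D.t * (j * j) := by group
    _ = D.t * j ^ 3 := by rw [h2, pow_succ, pow_two]; group
    _ = D.t := by rw [h3, mul_one]

/-- Conjugates of `z` under the normalizer of `J` are conjugates under `M` up to inversion. -/
theorem orbit {h : G} (hh : h ∈ normalizer (D.J : Set G)) :
    ∃ n : ↥P.M, h * D.z * h⁻¹ = (n : G) * D.z * (n : G)⁻¹ ∨
      h * D.z * h⁻¹ = (n : G) * D.z⁻¹ * (n : G)⁻¹ := by
  have _ : Fact (Nat.Prime 3) := ⟨Nat.prime_three⟩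
  set R : Subgroup G := (SS D).map (MulAut.conj h).toMonoidHom with hR
  have hRp : IsPGroup 3 ↥R := (SS_pgroup D).map _
  have hRN : R ≤ normalizer (D.J : Set G) := by
    rintro _ ⟨s, hs, rfl⟩
    exact mul_mem (mul_mem hh (SS_le_norm D hs)) (inv_mem hh)
  have hRM := P.three R hRp hRN
  have hcR : Nat.card ↥R = 729 := by
    rw [hR, ← card_SS D]
    exact (Nat.card_congr ((SS D).equivMapOfInjective _ (MulAut.conj h).injective).toEquiv).symm
  have hmax : ∀ {T U : Subgroup G} (_ : T ≤ P.M) (_ : IsPGroup 3 ↥T) (_ : Nat.card ↥T = 729)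
      (S : Sylow 3 ↥P.M), U = (S : Subgroup ↥P.M).map P.M.subtype → T ≤ U → T = U := by
    intro T U _ _ hT S hU hle
    refine eq_of_le_of_card_ge hle ?_
    rw [hT, hU]
    exact p_le_729 D (S.2.map _)
  obtain ⟨A, hA⟩ := ((SS_pgroup D).of_equiv (subgroupOfEquivOfLe P.SM).symm).exists_le_sylow
  obtain ⟨B, hB⟩ := (hRp.of_equiv (subgroupOfEquivOfLe hRM).symm).exists_le_sylow
  have eA : SS D = (A : Subgroup ↥P.M).map P.M.subtype :=
    hmax P.SM (SS_pgroup D) (card_SS D) A rfl fun s hs => ⟨⟨s, P.SM hs⟩, hA hs, rfl⟩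
  have eB : R = (B : Subgroup ↥P.M).map P.M.subtype :=
    hmax hRM hRp hcR B rfl fun s hs => ⟨⟨s, hRM hs⟩, hB hs, rfl⟩
  obtain ⟨n, hn⟩ := MulAction.exists_smul_eq ↥P.M A B
  refine ⟨n, ?_⟩
  have hRn : R = (SS D).map (MulAut.conj (n : G)).toMonoidHom := by
    rw [eB, eA, ← hn, Sylow.coe_subgroup_smul]
    show (((A : Subgroup ↥P.M).map (MulAut.conj n).toMonoidHom).map P.M.subtype) = _
    rw [map_map, map_map]
    congr 1
  set x : G := (n : G)⁻¹ * h with hx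
  have hxJ : x ∈ normalizer (D.J : Set G) := mul_mem (inv_mem (P.MN n.2)) hh
  have hxS : x ∈ normalizer (SS D : Set G) := by
    refine mem_normalizer_fintype fun s hs => ?_
    have h1 : h * s * h⁻¹ ∈ R := ⟨s, hs, rfl⟩
    rw [hRn] at h1
    obtain ⟨s', hs', he⟩ := h1
    have he' : (n : G) * s' * (n : G)⁻¹ = h * s * h⁻¹ := he
    rw [show x * s * x⁻¹ = s' by
      calc x * s * x⁻¹ = (n : G)⁻¹ * (h * s * h⁻¹) * (n : G) := by rw [hx]; group
        _ = s' := by rw [← he']; group]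
    exact hs'
  have e : h * D.z * h⁻¹ = (n : G) * (x * D.z * x⁻¹) * (n : G)⁻¹ := by rw [hx]; group
  rcases norm_z hxJ hxS with h1 | h1
  · exact Or.inl (by rw [e, h1])
  · exact Or.inr (by rw [e, h1])

/-- Which conjugates of `z` under `M` commute with `t`. -/
theorem classify {r m : ↥P.M} (hr : P.ψ r = sr)
    (hm : Commute ((m : G) * D.z * (m : G)⁻¹) D.t) :
    (m : G) * D.z * (m : G)⁻¹ ∈ zpowers D.z ∨
      (m : G) * D.z * (m : G)⁻¹ ∈ zpowers ((r : G) * D.z * (r : G)⁻¹) := by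
  set w : G := (m : G)⁻¹ * D.t * (m : G) with hw
  have hwM : w ∈ P.M := mul_mem (mul_mem (inv_mem m.2) P.tM) m.2
  have hwz : w * D.z * w⁻¹ = D.z := by
    have h1 : D.t * ((m : G) * D.z * (m : G)⁻¹) * D.t⁻¹ = (m : G) * D.z * (m : G)⁻¹ :=
      mul_inv_eq_iff_eq_mul.2 hm.symm.eq
    calc w * D.z * w⁻¹ = (m : G)⁻¹ * (D.t * ((m : G) * D.z * (m : G)⁻¹) * D.t⁻¹) * (m : G) := by
          rw [hw]; group
      _ = D.z := by rw [h1]; group
  have hb : IsBlock (P.ψ (m⁻¹ * ⟨D.t, P.tM⟩ * m)) := by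
    refine P.toPre.normSS_iff.1 ?_
    show w ∈ _
    exact normSS_of (P.MN hwM) (normQ D (Or.inl hwz))
  rw [map_mul, map_mul, map_inv, P.tu] at hb
  rcases centraliser_split _ (P.even m) hb with h | h
  · left
    rcases P.toPre.block_z h with e | e <;> rw [e]
    · exact mem_zpowers _
    · exact inv_mem (mem_zpowers _)
  · right
    rw [← hr, ← map_inv, ← map_mul] at h
    have e' : (m : G) * D.z * (m : G)⁻¹ =
        (r : G) * (((r⁻¹ * m : ↥P.M) : G) * D.z * ((r⁻¹ * m : ↥P.M) : G)⁻¹) * (r : G)⁻¹ := by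
      simp [mul_assoc]
    rcases P.toPre.block_z h with e | e <;> rw [e', e]
    · exact mem_zpowers _
    · rw [← conj_inv]; exact inv_mem (mem_zpowers _)

/-- The elements used for the further fields. -/
structure Sel (D : Top G) where
  c : G
  g : G
  k : G
  ct : Commute c D.t
  gt : Commute g D.t
  kt : Commute k D.t
  cJ : c ∈ normalizer (D.J : Set G)
  gJ : g ∈ normalizer (D.J : Set G)
  cQ : c ∈ normalizer (D.Q : Set G)
  cz : c * D.z * c⁻¹ = D.z⁻¹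
  ca : c * D.a * c⁻¹ = D.a⁻¹
  gz : g * D.z * g⁻¹ = D.a
  ga : g * D.a * g⁻¹ = D.z
  cc : c * c * D.t ∈ D.J
  gg : g * g ∈ D.J
  gc : g * c * g⁻¹ * c ∈ D.J
  fusion : ∀ h : G, Commute h D.t →
    h * D.z * h⁻¹ ≠ D.z * D.a ∧ h * D.z * h⁻¹ ≠ D.z * D.a⁻¹ ∧
      h * D.z * h⁻¹ ≠ D.z⁻¹ * D.a ∧ h * D.z * h⁻¹ ≠ D.z⁻¹ * D.a⁻¹
  kz : Commute k D.z
  ka : k * D.a * k⁻¹ = D.a⁻¹
  k_even : ∃ hk : k ∈ centralizer ({D.z} : Set G) ⊓ centralizer ({D.t} : Set G),
    D.φ ⟨k, hk⟩ ≠ 1 ∧ D.φ ⟨k, hk⟩ * D.φ ⟨k, hk⟩ = 1 ∧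
    ∃ x y, Perm.sign x = 1 ∧ Perm.sign y = 1 ∧ x * y * x⁻¹ * y⁻¹ = D.φ ⟨k, hk⟩

theorem mem_KT {x : G} (hz : Commute x D.z) (ht : Commute x D.t) :
    x ∈ centralizer ({D.z} : Set G) ⊓ centralizer ({D.t} : Set G) :=
  ⟨mem_centralizer_singleton_iff.2 hz.eq, mem_centralizer_singleton_iff.2 ht.eq⟩

theorem mem_closure_zt {x : G} (h : x ∈ closure ({D.z, D.t} : Set G)) :
    ∃ c ∈ zpowers D.z, x = c ∨ x = c * D.t := by
  have hsup : closure ({D.z, D.t} : Set G) = zpowers D.z ⊔ zpowers D.t := by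
    rw [Set.insert_eq, Subgroup.closure_union, ← zpowers_eq_closure, ← zpowers_eq_closure]
  rw [hsup] at h
  have hn : zpowers D.t ≤ normalizer (zpowers D.z : Set G) := by
    refine zpowers_le.2 (mem_normalizer_fintype fun y hy => ?_)
    obtain ⟨n, rfl⟩ := mem_zpowers_iff.1 hy
    rw [(D.tz.zpow_right n).eq, mul_inv_cancel_right]
    exact zpow_mem (mem_zpowers _) n
  have h' : x ∈ ((zpowers D.z : Set G) * (zpowers D.t : Set G)) := by
    rw [← coe_mul_of_right_le_normalizer_left _ _ hn]; exact h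
  obtain ⟨c, hc, b, hb, rfl⟩ := Set.mem_mul.1 h'
  obtain ⟨n, hn'⟩ := mem_powers_iff_mem_zpowers.2 hb
  replace hn' : D.t ^ n = b := hn'
  refine ⟨c, hc, ?_⟩
  rw [← hn', ← pow_mod_orderOf, D.ord_t]
  rcases Nat.mod_two_eq_zero_or_one n with e | e <;> rw [e]
  · exact Or.inl (by simp)
  · exact Or.inr (by simp)

theorem phi_a : ∃ h : D.a ∈ centralizer ({D.z} : Set G) ⊓ centralizer ({D.t} : Set G),
    D.φ ⟨D.a, h⟩ ^ 3 = 1 ∧ D.φ ⟨D.a, h⟩ ≠ 1 := by
  have h := mem_KT D.za.symm D.ta.symm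
  refine ⟨h, by rw [← map_pow, show (⟨D.a, h⟩ : ↥(centralizer ({D.z} : Set G) ⊓
    centralizer ({D.t} : Set G))) ^ 3 = 1 from Subtype.ext (a3 D), map_one], fun e => ?_⟩
  obtain ⟨c, hc, rfl | e'⟩ := mem_closure_zt ((D.φ_ker _).1 e)
  · exact D.a_notQ (zp_le D hc)
  · change D.a = c * D.t at e'
    have h1 := a3 D
    have hct : Commute c D.t := by
      obtain ⟨n, rfl⟩ := mem_zpowers_iff.1 hc; exact (D.tz.zpow_right n).symm
    rw [e', hct.mul_pow,
      cubeQ D (zp_le D hc), one_mul, pow_succ, pow_two, tt, one_mul] at h1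
    have := D.ord_t; rw [h1, orderOf_one] at this; omega

/-- An element of the centraliser of `z` and `t` acts on `a` through `φ`. -/
theorem kt_a {x : ↥(centralizer ({D.z} : Set G) ⊓ centralizer ({D.t} : Set G))} {b : G}
    (hb : b = D.a ∨ b = D.a⁻¹)
    (hbK : b ∈ centralizer ({D.z} : Set G) ⊓ centralizer ({D.t} : Set G))
    (ha : D.a ∈ centralizer ({D.z} : Set G) ⊓ centralizer ({D.t} : Set G))
    (h : D.φ x * D.φ ⟨D.a, ha⟩ * (D.φ x)⁻¹ = D.φ ⟨b, hbK⟩) :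
    (x : G) * D.a * (x : G)⁻¹ = b := by
  set y := x * ⟨D.a, ha⟩ * x⁻¹ * (⟨b, hbK⟩ : ↥(centralizer ({D.z} : Set G) ⊓
    centralizer ({D.t} : Set G)))⁻¹ with hy
  have h1 : D.φ y = 1 := by rw [hy, map_mul, map_mul, map_mul, map_inv, map_inv, h, mul_inv_cancel]
  have hχa : D.χ ⟨D.a, ha⟩ = 1 := D.χ_a _ rfl
  have hχb : D.χ ⟨b, hbK⟩ = 1 := by
    rcases hb with rfl | rfl
    · exact D.χ_a _ rfl
    · rw [show (⟨D.a⁻¹, hbK⟩ : ↥(centralizer ({D.z} : Set G) ⊓ centralizer ({D.t} : Set G))) =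
        ⟨D.a, ha⟩⁻¹ from rfl, map_inv, hχa, inv_one]
  have h2 : D.χ y = 1 := by
    rw [hy, map_mul, map_mul, map_mul, map_inv, map_inv, hχa, hχb, inv_one, mul_one, mul_one,
      mul_inv_cancel]
  obtain ⟨c, hc, e⟩ := mem_closure_zt ((D.φ_ker _).1 h1)
  have hye : (y : G) * b = (x : G) * D.a * (x : G)⁻¹ := by simp [hy]
  have hb3 : b ^ 3 = 1 := by rcases hb with rfl | rfl <;> simp [a3 D]
  have hbz : Commute b c := by
    rcases hb with rfl | rfl
    · exact zp_a D hc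
    · exact (zp_a D hc).inv_left
  have hbt : Commute b D.t := (mem_centralizer_singleton_iff.1 hbK.2)
  have hcube : ((y : G) * b) ^ 3 = 1 := by
    rw [hye, conj_pow, a3, mul_one, mul_inv_cancel]
  have hyc : (y : G) = c := by
    rcases e with e | e
    · exact e
    · exfalso
      have hct : Commute c D.t := by
        obtain ⟨n, rfl⟩ := mem_zpowers_iff.1 hc; exact (D.tz.zpow_right n).symm
      rw [e, (hbz.symm.mul_left hbt.symm).mul_pow, hb3, mul_one, hct.mul_pow,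
        cubeQ D (zp_le D hc), one_mul, pow_succ, pow_two, tt, one_mul] at hcube
      have := D.ord_t; rw [hcube, orderOf_one] at this; omega
  obtain ⟨n, hn⟩ := mem_powers_iff_mem_zpowers.2 hc
  replace hn : D.z ^ n = c := hn
  have hzK := mem_KT (Commute.refl D.z) D.tz.symm
  have hχc : D.χ (⟨D.z, hzK⟩ ^ n) = 1 := by
    rw [← h2]; congr 1; exact Subtype.ext (by simp [hyc, hn])
  rw [map_pow] at hχc
  have hne := D.χ_z ⟨D.z, hzK⟩ rfl
  have h3 : (D.χ ⟨D.z, hzK⟩) ^ 3 = 1 := by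
    rw [← map_pow, show (⟨D.z, hzK⟩ : ↥(centralizer ({D.z} : Set G) ⊓
      centralizer ({D.t} : Set G))) ^ 3 = 1 from Subtype.ext (z3 D), map_one]
  have : (3 : ℕ) ∣ n := by
    rw [← orderOf_eq_prime (hp := ⟨Nat.prime_three⟩) h3 hne]; exact orderOf_dvd_of_pow_eq_one hχc
  have hc1 : c = 1 := by
    rw [← hn]; exact orderOf_dvd_iff_pow_eq_one.1 (by rw [D.ord_z]; exact this)
  rw [← hye, hyc, hc1, one_mul]

theorem exists_k : ∃ k : G, ∃ hk : k ∈ centralizer ({D.z} : Set G) ⊓ centralizer ({D.t} : Set G),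
    k * D.a * k⁻¹ = D.a⁻¹ ∧ D.φ ⟨k, hk⟩ ≠ 1 ∧ D.φ ⟨k, hk⟩ * D.φ ⟨k, hk⟩ = 1 ∧
    ∃ x y, Perm.sign x = 1 ∧ Perm.sign y = 1 ∧ x * y * x⁻¹ * y⁻¹ = D.φ ⟨k, hk⟩ := by
  obtain ⟨ha, h3, hne⟩ := phi_a (D := D)
  obtain ⟨σ, hσ⟩ := five_conj _ h3 hne
  obtain ⟨x, y, hx, hy, hxy⟩ := five_commutator
  have hev : Perm.sign (σ⁻¹ * fk * σ) = 1 := by simp [five_facts.2.2.1]
  obtain ⟨k, hk⟩ := D.φ_range (Perm.mem_alternatingGroup.2 hev)
  have hσ' : D.φ ⟨D.a, ha⟩ = σ⁻¹ * fa * σ := by rw [← hσ]; group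
  refine ⟨k, k.2, ?_, ?_, ?_, σ⁻¹ * x * σ, σ⁻¹ * y * σ, by simp [hx], by simp [hy], ?_⟩
  · refine kt_a (Or.inr rfl) (inv_mem ha) ha ?_
    rw [show (⟨D.a⁻¹, inv_mem ha⟩ : ↥(centralizer ({D.z} : Set G) ⊓
      centralizer ({D.t} : Set G))) = ⟨D.a, ha⟩⁻¹ from rfl, map_inv, hk, hσ']
    calc σ⁻¹ * fk * σ * (σ⁻¹ * fa * σ) * (σ⁻¹ * fk * σ)⁻¹ = σ⁻¹ * (fk * fa * fk⁻¹) * σ := by group
      _ = (σ⁻¹ * fa * σ)⁻¹ := by rw [five_facts.2.2.2.1]; group
  · show D.φ k ≠ 1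
    rw [hk]; intro h
    refine five_facts.2.2.2.2.2.1 ?_
    calc fk = σ * (σ⁻¹ * fk * σ) * σ⁻¹ := by group
      _ = 1 := by rw [h]; group
  · show D.φ k * D.φ k = 1
    rw [hk]
    calc σ⁻¹ * fk * σ * (σ⁻¹ * fk * σ) = σ⁻¹ * (fk * fk) * σ := by group
      _ = 1 := by rw [five_facts.2.2.2.2.1]; group
  · show _ = D.φ k
    rw [hk, ← hxy]; group

/-- A conjugate of `z` by a lift of the swap is `a` or its inverse. -/
theorem swap_image {r : ↥P.M} (hr : P.ψ r = sr) (hrt : Commute (r : G) D.t) :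
    (r : G) * D.z * (r : G)⁻¹ = D.a ∨ (r : G) * D.z * (r : G)⁻¹ = D.a⁻¹ := by
  set z' := (r : G) * D.z * (r : G)⁻¹ with hz'
  have hzJ : z' ∈ D.J := conj_memJ (P.MN r.2) (z_mem_J D)
  have hzt : Commute D.t z' := (hrt.symm.mul_right D.tz).mul_right hrt.symm.inv_right
  have hnz : z' ∉ zpowers D.z := by
    intro h
    have h1 : z' = D.z ∨ z' = D.z⁻¹ := by
      obtain ⟨n, hn⟩ := mem_powers_iff_mem_zpowers.2 h
      replace hn : D.z ^ n = z' := hn
      rw [← hn, ← pow_mod_orderOf, D.ord_z]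
      rcases (show n % 3 = 0 ∨ n % 3 = 1 ∨ n % 3 = 2 by omega) with e | e | e <;> rw [e]
      · exfalso
        rw [← pow_mod_orderOf, D.ord_z, e, pow_zero, hz'] at hn
        exact z_ne D (conj_eq_one_iff.1 hn.symm)
      · exact Or.inl (pow_one _)
      · exact Or.inr (eq_inv_of_mul_eq_one_left (by rw [← pow_succ, z3]))
    have h2 := P.toPre.normSS_iff.1 (normSS_of (P.MN r.2) (normQ D h1))
    have h3 := conj_of_block _ h2 _ mem_pList_conj.1
    rw [hr] at h3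
    exact mem_pList_conj.2.2.2.2.1 h3
  obtain ⟨k, hkK, hka, -⟩ := exists_k (D := D)
  have hkz : Commute k D.z := mem_centralizer_singleton_iff.1 hkK.1
  have hkt : Commute k D.t := mem_centralizer_singleton_iff.1 hkK.2
  have hkJ : k ∈ normalizer (D.J : Set G) :=
    normJ_of (normQ D (Or.inl (mul_inv_eq_iff_eq_mul.2 hkz.eq))) (Or.inr hka)
  have hkc : ∀ c ∈ zpowers D.z, k * c * k⁻¹ = c := fun c hc => by
    obtain ⟨n, rfl⟩ := mem_zpowers_iff.1 hc
    exact mul_inv_eq_iff_eq_mul.2 (hkz.zpow_right n).eq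
  have hv : k * z' * k⁻¹ ∈ zpowers D.z ∨ k * z' * k⁻¹ ∈ zpowers z' := by
    have hvt : Commute (k * z' * k⁻¹) D.t :=
      ((hkt.symm.mul_right hzt).mul_right hkt.symm.inv_right).symm
    have hve : k * z' * k⁻¹ = (k * r) * D.z * (k * r)⁻¹ := by rw [hz']; group
    obtain ⟨n, hn⟩ := orbit P (mul_mem hkJ (P.MN r.2))
    rw [← hve] at hn
    rcases hn with hn | hn <;> rw [hn] at hvt ⊢
    · exact classify P hr hvt
    · rw [← conj_inv] at hvt ⊢
      rw [inv_mem_iff, inv_mem_iff]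
      exact classify P hr (Commute.inv_left_iff.1 hvt)
  have key : ∀ b : G, (b = D.a ∨ b = D.a⁻¹) → ∀ c ∈ zpowers D.z, z' = b * c → c = 1 := by
    intro b hb c hc he
    have hbk : k * b * k⁻¹ = b⁻¹ := by
      rcases hb with rfl | rfl
      · exact hka
      · rw [← conj_inv, hka]
    have he' : k * z' * k⁻¹ = b⁻¹ * c := by rw [he, cmul, hbk, hkc c hc]
    have hb3 : b ^ 3 = 1 := by rcases hb with rfl | rfl <;> simp [a3 D]
    have hbQ : b ∉ D.Q := by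
      rcases hb with rfl | rfl
      exacts [D.a_notQ, a_inv_notQ D]
    have hbc : Commute b c := by
      rcases hb with rfl | rfl
      · exact zp_a D hc
      · exact (zp_a D hc).inv_left
    rcases hv with h | h
    · refine absurd ?_ hbQ
      rw [he'] at h
      have := mul_mem (zp_le D h) (inv_mem (zp_le D hc))
      rw [mul_inv_cancel_right] at this
      simpa using inv_mem this
    · obtain ⟨n, hn⟩ := mem_powers_iff_mem_zpowers.2 h
      replace hn : z' ^ n = b⁻¹ * c := hn.trans he'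
      have hc3 : c ^ 3 = 1 := cubeQ D (zp_le D hc)
      have hz3 : z' ^ 3 = 1 := by rw [he, hbc.mul_pow, hb3, hc3, one_mul]
      rw [← pow_mod_orderOf] at hn
      have hd : orderOf z' = 3 := orderOf_eq_prime (hp := ⟨Nat.prime_three⟩) hz3
        fun e => hnz (e ▸ one_mem _)
      rw [hd] at hn
      rcases (show n % 3 = 0 ∨ n % 3 = 1 ∨ n % 3 = 2 by omega) with e | e | e <;> rw [e] at hn
      · refine absurd ?_ hbQ
        rw [pow_zero, eq_comm, inv_mul_eq_one] at hn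
        exact hn ▸ zp_le D hc
      · refine absurd ?_ hbQ
        rw [pow_one, he] at hn
        have hbb : b * b = 1 := by
          calc b * b = b * (b * c) * c⁻¹ := by group
            _ = b * (b⁻¹ * c) * c⁻¹ := by rw [hn]
            _ = 1 := by group
        rw [pow_succ, pow_two, hbb, one_mul] at hb3
        exact hb3 ▸ one_mem _
      · rw [he, hbc.mul_pow, pow_two] at hn
        have : c ^ 2 = c := by
          calc c ^ 2 = (b * b)⁻¹ * (b * b * c ^ 2) := by group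
            _ = (b * b)⁻¹ * (b⁻¹ * c) := by rw [hn]
            _ = (b ^ 3)⁻¹ * c := by rw [pow_succ, pow_two]; group
            _ = c := by rw [hb3, inv_one, one_mul]
        rw [pow_two] at this
        exact mul_eq_right.1 this
  obtain ⟨c, hc, h | h | h⟩ := mem_J_t D hzJ hzt
  · exact absurd (h ▸ hc) hnz
  · left; rw [h, key D.a (Or.inl rfl) c hc h, mul_one]
  · right; rw [h, key D.a⁻¹ (Or.inr rfl) c hc h, mul_one]

end CfsgLib.McLThree.Six
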