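import Cfsg.Agent.Lib.McLThree.Defs
import Cfsg.Agent.Lib.McLThree.Six.Finite

/-!
The action of `Q` and `a` on each other, and the abelian subgroup `J`.
-/

set_option autoImplicit false
set_option linter.unusedSectionVars false

namespace CfsgLib.McLThree.Six

open Subgroup

universe u

variable {G : Type u} [Group G]

/-- The commutator. -/
def com (x y : G) : G := x * y * x⁻¹ * y⁻¹

theorem com_eq_one {x y : G} : com x y = 1 ↔ Commute x y := by
  constructor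
  · intro h
    have := congrArg (fun w => w * y * x) h
    simpa [com, mul_assoc, Commute, SemiconjBy] using this
  · intro h
    rw [com, h.eq]; group

variable (D : Top G)

/-- The fixed points of `a` in `Q`. -/
def FF : Subgroup G := D.Q ⊓ centralizer ({D.a} : Set G)

/-- The commutator with `a`. -/
def fa' (q : G) : G := com D.a q

theorem mem_FF {x : G} : x ∈ FF D ↔ x ∈ D.Q ∧ Commute D.a x := by
  rw [FF, mem_inf, mem_centralizer_singleton_iff]
  exact and_congr_right fun _ => ⟨fun h => h.symm, fun h => h.eq.symm⟩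

theorem FF_le : FF D ≤ D.Q := inf_le_left

theorem a_comm_FF {x : G} (h : x ∈ FF D) : Commute D.a x := ((mem_FF D).1 h).2

theorem z3 : D.z ^ 3 = 1 := by simpa only [D.ord_z] using pow_orderOf_eq_one D.z

theorem a3 : D.a ^ 3 = 1 := by simpa only [D.ord_a] using pow_orderOf_eq_one D.a

theorem tt : D.t * D.t = 1 := by simpa only [D.ord_t, sq] using pow_orderOf_eq_one D.t

theorem z_ne : D.z ≠ 1 := fun h => by
  have := D.ord_z; rw [h, orderOf_one] at this; omega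

theorem z_inv_ne : D.z⁻¹ ≠ D.z := fun h => z_ne D (by
  have h3 := z3 D
  have h2 : D.z * D.z = 1 := by nth_rw 1 [← h]; exact inv_mul_cancel D.z
  rwa [pow_succ, pow_two, h2, one_mul] at h3)

theorem z_commQ {q : G} (hq : q ∈ D.Q) : Commute D.z q :=
  (mem_centralizer_iff.1 (D.cQ hq)) D.z rfl

theorem zp_commQ {c q : G} (hc : c ∈ zpowers D.z) (hq : q ∈ D.Q) : Commute c q := by
  obtain ⟨n, rfl⟩ := mem_zpowers_iff.1 hc
  exact (z_commQ D hq).zpow_left n

theorem zp_le : zpowers D.z ≤ D.Q := zpowers_le.2 D.zQ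

theorem z_mem_FF : D.z ∈ FF D := (mem_FF D).2 ⟨D.zQ, D.za.symm⟩

theorem zp_FF : zpowers D.z ≤ FF D := zpowers_le.2 (z_mem_FF D)

theorem zp_a {c : G} (hc : c ∈ zpowers D.z) : Commute D.a c := a_comm_FF D (zp_FF D hc)

theorem FF_comm {x y : G} (hx : x ∈ FF D) (hy : y ∈ FF D) : Commute x y := by
  have h := D.fix_a.2
  exact congrArg Subtype.val (h.is_comm.comm (⟨x, hx⟩ : ↥(FF D)) ⟨y, hy⟩)

theorem com_mem {x y : G} (hx : x ∈ D.Q) (hy : y ∈ D.Q) : com x y ∈ zpowers D.z :=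
  D.commQ x hx y hy

theorem conjQ_eq {x y : G} (hx : x ∈ D.Q) (hy : y ∈ D.Q) : x * y * x⁻¹ = com x y * y := by
  simp [com]

theorem com_mul_left {x y w : G} (hx : x ∈ D.Q) (hy : y ∈ D.Q) (hw : w ∈ D.Q) :
    com (x * y) w = com x w * com y w := by
  have h := zp_commQ D (com_mem D hy hw) hx
  calc com (x * y) w = x * (y * w * y⁻¹) * x⁻¹ * w⁻¹ := by simp [com]; group
    _ = x * (com y w * w) * x⁻¹ * w⁻¹ := by rw [conjQ_eq D hy hw]
    _ = com y w * com x w := by rw [← mul_assoc x, ← h.eq]; simp [com]; group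
    _ = com x w * com y w :=
      (zp_commQ D (com_mem D hy hw) (zp_le D (com_mem D hx hw))).eq

theorem com_mul_right {x y w : G} (hx : x ∈ D.Q) (hy : y ∈ D.Q) (hw : w ∈ D.Q) :
    com x (y * w) = com x y * com x w := by
  have h := zp_commQ D (com_mem D hx hw) hy
  calc com x (y * w) = (x * y * x⁻¹) * (x * w * x⁻¹) * w⁻¹ * y⁻¹ := by simp [com]; group
    _ = (com x y * y) * (com x w * w) * w⁻¹ * y⁻¹ := by
        rw [conjQ_eq D hx hy, conjQ_eq D hx hw]
    _ = com x y * (y * com x w) * y⁻¹ := by group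
    _ = com x y * com x w := by rw [← h.eq]; group

theorem com_inv_left {x w : G} (hx : x ∈ D.Q) (hw : w ∈ D.Q) : com x⁻¹ w = (com x w)⁻¹ := by
  rw [eq_inv_iff_mul_eq_one, ← com_mul_left D (inv_mem hx) hx hw, inv_mul_cancel]
  simp [com]

theorem com_inv_right {x w : G} (hx : x ∈ D.Q) (hw : w ∈ D.Q) : com x w⁻¹ = (com x w)⁻¹ := by
  rw [eq_inv_iff_mul_eq_one, ← com_mul_right D hx (inv_mem hw) hw, inv_mul_cancel]
  simp [com]

theorem com_conj (g x y : G) : g * com x y * g⁻¹ = com (g * x * g⁻¹) (g * y * g⁻¹) := by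
  simp only [com]; group

theorem cmul (g a b : G) : g * (a * b) * g⁻¹ = g * a * g⁻¹ * (g * b * g⁻¹) := by group

theorem cubeQ {q : G} (hq : q ∈ D.Q) : q ^ 3 = 1 := D.expQ q hq

variable [Finite G]

theorem no81 (A : Subgroup G) (hA : A ≤ D.Q) (hab : ∀ x ∈ A, ∀ y ∈ A, Commute x y)
    (h81 : 81 ≤ Nat.card A) : False := by
  have hz3 : Nat.card ↥(zpowers D.z) = 3 := by rw [Nat.card_zpowers, D.ord_z]
  by_cases hQA : D.Q ≤ A
  · have hle : D.Q ≤ zpowers D.z := fun q hq =>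
      D.centerQ q hq fun x hx => hab q (hQA hq) x (hQA hx)
    have := Nat.le_of_dvd Nat.card_pos (card_dvd_of_le hle)
    rw [D.cardQ, hz3] at this
    norm_num at this
  obtain ⟨y, hyQ, hyA⟩ := SetLike.not_le_iff_exists.1 hQA
  set B : Subgroup G := A ⊔ zpowers y with hB
  have hBQ : B ≤ D.Q := sup_le hA (zpowers_le.2 hyQ)
  have hAB : A < B := lt_of_le_of_ne le_sup_left
    fun h => hyA (by rw [h]; exact le_sup_right (b := zpowers y) (mem_zpowers y))
  have hBeq : B = D.Q := by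
    refine eq_of_le_of_card_ge hBQ ?_
    have h1 : Nat.card A ∣ Nat.card B := card_dvd_of_le le_sup_left
    have h2 : Nat.card B ∣ 243 := by have := card_dvd_of_le hBQ; rwa [D.cardQ] at this
    have h3 : Nat.card A < Nat.card B :=
      lt_of_le_of_ne (Nat.le_of_dvd Nat.card_pos h1) fun h =>
        hAB.ne (eq_of_le_of_card_ge hAB.le h.ge)
    obtain ⟨i, hi, hie⟩ := (Nat.dvd_prime_pow Nat.prime_three).1 (show Nat.card B ∣ 3 ^ 5 from h2)
    rw [D.cardQ, hie]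
    interval_cases i <;> omega
  let ρ : ↥A →* ↥(zpowers D.z) :=
    { toFun := fun x => ⟨com y x, com_mem D hyQ (hA x.2)⟩
      map_one' := Subtype.ext (by simp [com])
      map_mul' := fun a b => Subtype.ext (com_mul_right D hyQ (hA a.2) (hA b.2)) }
  have hker : Nat.card ρ.ker ≤ 3 := by
    rw [← hz3]
    refine Nat.card_le_card_of_injective
      (fun k => (⟨((k : ↥A) : G), D.centerQ _ (hA (k : ↥A).2) fun x hx => ?_⟩ : ↥(zpowers D.z)))
      fun k l h => Subtype.ext (Subtype.ext (by simpa using congrArg Subtype.val h))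
    have hky : Commute y ((k : ↥A) : G) :=
      com_eq_one.1 (by simpa [ρ] using congrArg Subtype.val (MonoidHom.mem_ker.1 k.2))
    have hsub : B ≤ centralizer ({((k : ↥A) : G)} : Set G) := by
      refine sup_le (fun w hw => mem_centralizer_singleton_iff.2 ?_)
        (zpowers_le.2 (mem_centralizer_singleton_iff.2 hky.eq))
      exact (hab _ hw _ (k : ↥A).2).eq
    rw [hBeq] at hsub
    exact (mem_centralizer_singleton_iff.1 (hsub hx)).symm
  have hran : Nat.card ρ.range ≤ 3 := hz3 ▸ Nat.le_of_dvd Nat.card_pos (card_subgroup_dvd_card _)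
  have hcard := ρ.ker.index_mul_card
  rw [index_ker] at hcard
  have : Nat.card ρ.range * Nat.card ρ.ker ≤ 3 * 3 := Nat.mul_le_mul hran hker
  omega

theorem mem_FF_of_comm {q : G} (hq : q ∈ D.Q) (h : ∀ x ∈ FF D, Commute q x) : q ∈ FF D := by
  by_contra hne
  set A : Subgroup G := closure (insert q (FF D : Set G)) with hA
  have hAQ : A ≤ D.Q := (closure_le _).2 (Set.insert_subset hq (FF_le D))
  have hab : ∀ x ∈ A, ∀ y ∈ A, Commute x y := by
    have hc : IsMulCommutative A := by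
      refine isMulCommutative_closure ?_
      rintro x (rfl | hx) y (rfl | hy)
      · rfl
      · exact (h y hy).eq
      · exact (h x hx).symm.eq
      · exact (FF_comm D hx hy).eq
    intro x hx y hy
    exact congrArg Subtype.val (hc.is_comm.comm (⟨x, hx⟩ : ↥A) ⟨y, hy⟩)
  refine no81 D A hAQ hab ?_
  have hlt : FF D < A := by
    refine lt_of_le_of_ne (fun x hx => subset_closure (Set.mem_insert_of_mem _ hx)) fun h' => hne ?_
    rw [h']; exact subset_closure (Set.mem_insert _ _)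
  have h27 : Nat.card ↥(FF D) = 27 := D.fix_a.1
  obtain ⟨i, hi, hie⟩ := (Nat.dvd_prime_pow Nat.prime_three).1
    (show Nat.card A ∣ 3 ^ 5 from D.cardQ ▸ card_dvd_of_le hAQ)
  have h1 : Nat.card ↥(FF D) < Nat.card A := lt_of_le_of_ne
    (Nat.le_of_dvd Nat.card_pos (card_dvd_of_le hlt.le)) fun h' =>
      hlt.ne (eq_of_le_of_card_ge hlt.le h'.ge)
  rw [h27, hie] at h1
  rw [hie]
  interval_cases i <;> omega

theorem normQ {h : G} (hh : h * D.z * h⁻¹ = D.z ∨ h * D.z * h⁻¹ = D.z⁻¹) :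
    h ∈ normalizer (D.Q : Set G) := by
  refine D.nQ ?_
  rw [mem_normalizer_iff_map_conj_eq, MonoidHom.map_zpowers]
  show zpowers (h * D.z * h⁻¹) = zpowers D.z
  rcases hh with h | h <;> rw [h]
  exact zpowers_inv

theorem conj_memQ {h q : G} (hh : h ∈ normalizer (D.Q : Set G)) (hq : q ∈ D.Q) :
    h * q * h⁻¹ ∈ D.Q := (mem_normalizer_iff.1 hh q).1 hq

theorem a_normQ : D.a ∈ normalizer (D.Q : Set G) :=
  normQ D (Or.inl (mul_inv_eq_iff_eq_mul.2 D.za.symm.eq))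

theorem fa_memQ {q : G} (hq : q ∈ D.Q) : fa' D q ∈ D.Q :=
  mul_mem (conj_memQ D (a_normQ D) hq) (inv_mem hq)

theorem fa_memFF {q : G} (hq : q ∈ D.Q) : fa' D q ∈ FF D := by
  refine mem_FF_of_comm D (fa_memQ D hq) fun x hx => com_eq_one.1 ?_
  have hxQ := FF_le D hx
  rw [show fa' D q = (D.a * q * D.a⁻¹) * q⁻¹ from rfl,
    com_mul_left D (conj_memQ D (a_normQ D) hq) (inv_mem hq) hxQ, com_inv_left D hq hxQ]
  have h1 : com (D.a * q * D.a⁻¹) x = D.a * com q x * D.a⁻¹ := by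
    rw [com_conj]
    congr 1
    exact (mul_inv_eq_iff_eq_mul.2 (a_comm_FF D hx).eq).symm
  rw [h1, (zp_a D (com_mem D hq hxQ)).eq]
  simp

theorem fa_mul {x y : G} (hx : x ∈ D.Q) (hy : y ∈ D.Q) :
    fa' D (x * y) = com x (fa' D y) * (fa' D x * fa' D y) := by
  have hc := zp_commQ D (com_mem D hx (fa_memQ D hy)) (fa_memQ D hx)
  calc fa' D (x * y) = fa' D x * (x * fa' D y * x⁻¹) := by simp only [fa', com]; group
    _ = fa' D x * (com x (fa' D y) * fa' D y) := by rw [conjQ_eq D hx (fa_memQ D hy)]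
    _ = _ := by rw [← mul_assoc, ← hc.eq, mul_assoc]

theorem fa_fix {x : G} (hx : x ∈ D.Q) (h : fa' D x ∈ zpowers D.z) : x ∈ FF D := by
  obtain ⟨ζ, hζ, hx'⟩ : ∃ ζ ∈ zpowers D.z, D.t * x * D.t⁻¹ = ζ * x⁻¹ :=
    ⟨_, D.tQ x hx, by group⟩
  have hfix : ∀ c ∈ zpowers D.z, D.t * c * D.t⁻¹ = c := fun c hc => by
    obtain ⟨n, rfl⟩ := mem_zpowers_iff.1 hc
    exact mul_inv_eq_iff_eq_mul.2 (D.tz.zpow_right n).eq
  have hta : D.t * D.a * D.t⁻¹ = D.a := mul_inv_eq_iff_eq_mul.2 D.ta.eq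
  have h1 : com D.a (ζ * x⁻¹) = fa' D x := by
    rw [← hx']
    nth_rw 1 [← hta]
    rw [← com_conj]
    exact hfix _ h
  have hcz : D.a * ζ = ζ * D.a := (zp_a D hζ).eq
  have h2 : com D.a (ζ * x⁻¹) = ζ * com D.a x⁻¹ * ζ⁻¹ := by
    simp only [com]
    rw [show D.a * (ζ * x⁻¹) = ζ * D.a * x⁻¹ by rw [← mul_assoc, hcz]]
    group
  have h3 : com D.a x⁻¹ = (fa' D x)⁻¹ := by
    calc com D.a x⁻¹ = x⁻¹ * (fa' D x)⁻¹ * x := by simp only [fa', com]; group
      _ = (fa' D x)⁻¹ := by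
        rw [← ((zp_commQ D (inv_mem h) (inv_mem hx))).eq]; group
  have hinvQ : com D.a x⁻¹ ∈ D.Q := h3 ▸ inv_mem (zp_le D h)
  rw [h2, (zp_commQ D hζ hinvQ).eq, mul_inv_cancel_right, h3] at h1
  have h4 : fa' D x * fa' D x = 1 := by nth_rw 2 [← h1]; exact mul_inv_cancel _
  have h5 : fa' D x = 1 := by
    have := cubeQ D (fa_memQ D hx)
    rwa [pow_succ, pow_two, h4, one_mul] at this
  exact (mem_FF D).2 ⟨hx, com_eq_one.1 h5⟩

theorem exists_pairing : ∃ q ∈ D.Q, ∃ p ∈ D.Q, com q (fa' D p) ≠ 1 := by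
  by_contra hcon
  push_neg at hcon
  have hle : D.Q ≤ FF D := fun p hp => fa_fix D hp
    (D.centerQ _ (fa_memQ D hp) fun q hq => (com_eq_one.1 (hcon q hq p hp)).symm)
  have := Nat.le_of_dvd Nat.card_pos (card_dvd_of_le hle)
  have h27 : Nat.card ↥(FF D) = 27 := D.fix_a.1
  rw [D.cardQ, h27] at this
  norm_num at this

theorem eq_of_fix_power {x c : G} (hc : c ∈ zpowers D.z) (hne : c ≠ 1) :
    (x * c * x⁻¹ = c → x * D.z * x⁻¹ = D.z) ∧
      (x * c * x⁻¹ = c⁻¹ → x * D.z * x⁻¹ = D.z⁻¹) := by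
  obtain ⟨n, hn⟩ := mem_powers_iff_mem_zpowers.2 hc
  replace hn : D.z ^ n = c := hn
  have hm : n % 3 = 1 ∨ n % 3 = 2 := by
    rcases (show n % 3 = 0 ∨ n % 3 = 1 ∨ n % 3 = 2 by omega) with h | h
    · exact absurd (by rw [← hn, ← pow_mod_orderOf, D.ord_z, h, pow_zero]) hne
    · exact h
  have hc2 : c = D.z ∨ c = D.z⁻¹ := by
    rw [← hn, ← pow_mod_orderOf, D.ord_z]
    rcases hm with h | h <;> rw [h]
    · exact Or.inl (pow_one _)
    · refine Or.inr (eq_inv_of_mul_eq_one_left ?_)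
      rw [← pow_succ, z3]
  have hinv : x * D.z⁻¹ * x⁻¹ = (x * D.z * x⁻¹)⁻¹ := by group
  rcases hc2 with rfl | rfl
  · exact ⟨id, id⟩
  · rw [hinv, inv_inv, inv_inj, inv_eq_iff_eq_inv]
    exact ⟨id, id⟩

theorem fa_shift {p w : G} (hp : p ∈ D.Q) (hw : w ∈ FF D) :
    fa' D (p * w) = com p (1 : G) * fa' D p := by
  have hw1 : fa' D w = 1 := com_eq_one.2 (a_comm_FF D hw)
  rw [fa_mul D hp (FF_le D hw), hw1, mul_one]

/-- An element acting as the identity or as inversion on `Q` over its fixed points of `a`, and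
sending `a` into a coset, determines its action on `z`. -/
theorem grade {x w : G} (hx : x ∈ normalizer (D.Q : Set G)) (hw : w ∈ FF D) :
    ((x * D.a * x⁻¹ = D.a * w) →
      ((∀ q ∈ D.Q, x * q * x⁻¹ * q⁻¹ ∈ FF D) ∨ (∀ q ∈ D.Q, x * q * x⁻¹ * q ∈ FF D)) →
      x * D.z * x⁻¹ = D.z) ∧
    ((x * D.a * x⁻¹ = D.a⁻¹ * w) → (∀ q ∈ D.Q, x * q * x⁻¹ * q⁻¹ ∈ FF D) →
      x * D.z * x⁻¹ = D.z⁻¹) := by
  obtain ⟨q, hq, p, hp, hne⟩ := exists_pairing D
  have hcZ := com_mem D hq (fa_memQ D hp)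
  -- the image of the commutator with `a`
  have himg : ∀ (b : G) {p' : G}, p' ∈ D.Q → Commute b w →
      x * D.a * x⁻¹ = b * w → x * p * x⁻¹ = p' →
      ∃ ζ ∈ zpowers D.z, (∀ c ∈ zpowers D.z, Commute b c) →
        x * fa' D p * x⁻¹ = ζ * com b p' := by
    intro b p' hp' hbw hb he
    refine ⟨com w p', com_mem D (FF_le D hw) hp', fun hbc => ?_⟩
    rw [fa', com_conj, hb, he]
    calc com (b * w) p' = b * (w * p' * w⁻¹) * b⁻¹ * p'⁻¹ := by simp only [com]; group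
      _ = b * (com w p' * p') * b⁻¹ * p'⁻¹ := by rw [conjQ_eq D (FF_le D hw) hp']
      _ = com w p' * com b p' := by
        rw [← mul_assoc b, (hbc _ (com_mem D (FF_le D hw) hp')).eq]; simp only [com]; group
  have hkey : ∀ {q' p' ζ r : G}, q' ∈ D.Q → ζ ∈ zpowers D.z → r ∈ D.Q →
      x * q * x⁻¹ = q' → x * fa' D p * x⁻¹ = ζ * r →
      x * com q (fa' D p) * x⁻¹ = com q' r := by
    intro q' p' ζ r hq' hζ hr e1 e2
    rw [com_conj, e1, e2, com_mul_right D hq' (zp_le D hζ) hr,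
      com_eq_one.2 (zp_commQ D hζ hq').symm, one_mul]
  have hcomFF : ∀ {u v r : G}, u ∈ FF D → v ∈ D.Q → r ∈ FF D → com (u * v) r = com v r := by
    intro u v r hu hv hr
    rw [com_mul_left D (FF_le D hu) hv (FF_le D hr), com_eq_one.2 (FF_comm D hu hr), one_mul]
  have hfu : ∀ {u v : G}, u ∈ FF D → v ∈ D.Q →
      ∃ ζ ∈ zpowers D.z, fa' D (u * v) = ζ * fa' D v := by
    intro u v hu hv
    refine ⟨com u (fa' D v), com_mem D (FF_le D hu) (fa_memQ D hv), ?_⟩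
    rw [fa_mul D (FF_le D hu) hv, show fa' D u = 1 from com_eq_one.2 (a_comm_FF D hu), one_mul]
  constructor
  · intro hxa hδ
    refine (eq_of_fix_power D hcZ hne).1 ?_
    rcases hδ with hδ | hδ
    · set u := x * q * x⁻¹ * q⁻¹
      set v := x * p * x⁻¹ * p⁻¹
      have hu : u ∈ FF D := hδ q hq
      have hv : v ∈ FF D := hδ p hp
      obtain ⟨ζ, hζ, hf⟩ := himg D.a (mul_mem (FF_le D hv) hp) (a_comm_FF D hw) hxa
        (show x * p * x⁻¹ = v * p by simp [v])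
      obtain ⟨ζ', hζ', hf'⟩ := hfu hv hp
      have e := hf fun c hc => zp_a D hc
      rw [show com D.a (v * p) = fa' D (v * p) from rfl, hf', ← mul_assoc] at e
      rw [hkey (p' := p) (mul_mem (FF_le D hu) hq) (mul_mem hζ hζ') (fa_memQ D hp)
        (show x * q * x⁻¹ = u * q by simp [u]) e]
      exact hcomFF hu hq (fa_memFF D hp)
    · set u := x * q * x⁻¹ * q
      set v := x * p * x⁻¹ * p
      have hu : u ∈ FF D := hδ q hq
      have hv : v ∈ FF D := hδ p hp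
      obtain ⟨ζ, hζ, hf⟩ := himg D.a (mul_mem (FF_le D hv) (inv_mem hp)) (a_comm_FF D hw) hxa
        (show x * p * x⁻¹ = v * p⁻¹ by simp [v])
      obtain ⟨ζ', hζ', hf'⟩ := hfu hv (inv_mem hp)
      have h0 := fa_mul D (inv_mem hp) hp
      rw [inv_mul_cancel, show fa' D (1 : G) = 1 by simp [fa', com]] at h0
      have hpinv : fa' D p⁻¹ = (com p⁻¹ (fa' D p))⁻¹ * (fa' D p)⁻¹ := by
        rw [mul_eq_one_iff_inv_eq.1 h0.symm, mul_inv_cancel_right]
      have e := hf fun c hc => zp_a D hc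
      rw [show com D.a (v * p⁻¹) = fa' D (v * p⁻¹) from rfl, hf', hpinv, ← mul_assoc,
        ← mul_assoc] at e
      rw [hkey (p' := p) (mul_mem (FF_le D hu) (inv_mem hq))
        (mul_mem (mul_mem hζ hζ') (inv_mem (com_mem D (inv_mem hp) (fa_memQ D hp))))
        (inv_mem (fa_memQ D hp)) (show x * q * x⁻¹ = u * q⁻¹ by simp [u]) e,
        hcomFF hu (inv_mem hq) (inv_mem (fa_memFF D hp)),
        com_inv_left D hq (inv_mem (fa_memQ D hp)), com_inv_right D hq (fa_memQ D hp), inv_inv]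
  · intro hxa hδ
    refine (eq_of_fix_power D hcZ hne).2 ?_
    set u := x * q * x⁻¹ * q⁻¹
    set v := x * p * x⁻¹ * p⁻¹
    have hu : u ∈ FF D := hδ q hq
    have hv : v ∈ FF D := hδ p hp
    obtain ⟨ζ, hζ, hf⟩ := himg D.a⁻¹ (mul_mem (FF_le D hv) hp) (a_comm_FF D hw).inv_left hxa
      (show x * p * x⁻¹ = v * p by simp [v])
    obtain ⟨ζ', hζ', hf'⟩ := hfu hv hp
    have e := hf fun c hc => (zp_a D hc).inv_left
    have hneg : com D.a⁻¹ (v * p) = (fa' D (v * p))⁻¹ := by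
      have h1 := (a_comm_FF D (fa_memFF D (mul_mem (FF_le D hv) hp))).inv_inv.eq
      calc com D.a⁻¹ (v * p) = D.a⁻¹ * (fa' D (v * p))⁻¹ * D.a := by simp only [fa', com]; group
        _ = _ := by rw [h1]; group
    rw [hneg, hf', mul_inv_rev, ← (zp_commQ D (inv_mem hζ') (inv_mem (fa_memQ D hp))).eq,
      ← mul_assoc] at e
    rw [hkey (p' := p) (mul_mem (FF_le D hu) hq) (mul_mem hζ (inv_mem hζ'))
      (inv_mem (fa_memQ D hp)) (show x * q * x⁻¹ = u * q by simp [u]) e,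
      hcomFF hu hq (inv_mem (fa_memFF D hp)), com_inv_right D hq (fa_memQ D hp)]

/-- An element acting trivially on the factors of the series has its cube centralising. -/
theorem cube_fix {x : G} (hx : x ∈ normalizer (D.Q : Set G))
    (hz : x * D.z * x⁻¹ = D.z) (ha : x * D.a * x⁻¹ * D.a⁻¹ ∈ FF D)
    (hq : ∀ q ∈ D.Q, x * q * x⁻¹ * q⁻¹ ∈ FF D) :
    Commute (x ^ 3) D.a ∧ ∀ f ∈ FF D, Commute (x ^ 3) f := by
  have hzf : ∀ c ∈ zpowers D.z, x * c * x⁻¹ = c := fun c hc => by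
    obtain ⟨n, rfl⟩ := mem_zpowers_iff.1 hc
    rw [← conj_zpow, hz]
  have hF : ∀ f ∈ FF D, ∃ ζ ∈ zpowers D.z, x * f * x⁻¹ = ζ * f := by
    intro f hf
    refine ⟨x * f * x⁻¹ * f⁻¹, ?_, by group⟩
    have hfQ := FF_le D hf
    have hxf : x * f * x⁻¹ ∈ D.Q := conj_memQ D hx hfQ
    refine D.centerQ _ (mul_mem hxf (inv_mem hfQ)) fun q hq' => (com_eq_one.1 ?_).symm
    rw [com_mul_right D hq' hxf (inv_mem hfQ), com_inv_right D hq' hfQ, mul_inv_eq_one]
    have hxfF : x * f * x⁻¹ ∈ FF D := by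
      have h1 : Commute (x * D.a * x⁻¹) (x * f * x⁻¹) := (a_comm_FF D hf).map (MulAut.conj x)
      set g := x * D.a * x⁻¹ * D.a⁻¹ with hg
      rw [show x * D.a * x⁻¹ = g * D.a by simp [g]] at h1
      refine fa_fix D hxf ?_
      have e : D.a * (x * f * x⁻¹) * D.a⁻¹ = g⁻¹ * (x * f * x⁻¹) * g := by
        have := congrArg (fun v => g⁻¹ * v * D.a⁻¹) h1.eq
        simpa [mul_assoc] using this
      show D.a * (x * f * x⁻¹) * D.a⁻¹ * (x * f * x⁻¹)⁻¹ ∈ zpowers D.z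
      rw [e]
      simpa [com] using com_mem D (inv_mem (FF_le D ha)) hxf
    have h3 : com (x * q * x⁻¹) (x * f * x⁻¹) = com q f := by
      rw [← com_conj]; exact hzf _ (com_mem D hq' hfQ)
    rw [← h3, show x * q * x⁻¹ = (x * q * x⁻¹ * q⁻¹) * q by group,
      com_mul_left D (FF_le D (hq q hq')) hq' hxf,
      com_eq_one.2 (FF_comm D (hq q hq') hxfF), one_mul]
  have hc : ∀ f ∈ FF D, Commute (x ^ 3) f := by
    intro f hf
    obtain ⟨ζ, hζ, he⟩ := hF f hf
    refine mul_inv_eq_iff_eq_mul.1 ?_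
    have h2 : x ^ 3 * f * (x ^ 3)⁻¹ = x * (x * (x * f * x⁻¹) * x⁻¹) * x⁻¹ := by
      rw [pow_succ, pow_two]; group
    rw [h2, he, cmul x ζ f, hzf ζ hζ, he, ← mul_assoc ζ ζ f, cmul x (ζ * ζ) f,
      hzf _ (mul_mem hζ hζ), he, ← mul_assoc]
    have h3 : ζ * ζ * ζ = 1 := by rw [← pow_two, ← pow_succ, cubeQ D (zp_le D hζ)]
    rw [h3, one_mul]
  refine ⟨mul_inv_eq_iff_eq_mul.1 ?_, hc⟩
  set g := x * D.a * x⁻¹ * D.a⁻¹
  have hga : x * D.a * x⁻¹ = g * D.a := by simp [g]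
  obtain ⟨ζ, hζ, he⟩ := hF g ha
  have h2 : x ^ 3 * D.a * (x ^ 3)⁻¹ = x * (x * (x * D.a * x⁻¹) * x⁻¹) * x⁻¹ := by
    rw [pow_succ, pow_two]; group
  rw [h2, hga, cmul x g D.a, he, hga, cmul x (ζ * g) (g * D.a), cmul x ζ g, hzf ζ hζ, he,
    cmul x g D.a, he, hga]
  have c1 : ζ * g = g * ζ := (zp_commQ D hζ (FF_le D ha)).eq
  have h3 : ζ ^ 3 = 1 := cubeQ D (zp_le D hζ)
  have h4 : g ^ 3 = 1 := cubeQ D (FF_le D ha)
  calc ζ * (ζ * g) * (ζ * g * (g * D.a)) = ζ ^ 3 * g ^ 3 * D.a := by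
        simp only [pow_succ, pow_zero, one_mul]
        simp only [mul_assoc]
        rw [← mul_assoc g ζ, ← c1, mul_assoc]
    _ = D.a := by rw [h3, h4, one_mul, one_mul]

end CfsgLib.McLThree.Six
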