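import Cfsg.Agent.Lib.McLThree.Six.Local

/-!
The elements `c` and `g`, and the fusion in the centraliser of `t`.
-/

set_option autoImplicit false
set_option linter.unusedSectionVars false

namespace CfsgLib.McLThree.Six

open Subgroup Equiv

universe u

variable {G : Type u} [Group G] [Finite G] {D : Top G}

theorem zp_cases {x v : G} (h3 : x ^ 3 = 1) (hv : v ∈ zpowers x) : v = 1 ∨ v = x ∨ v = x⁻¹ := by
  obtain ⟨n, hn⟩ := mem_powers_iff_mem_zpowers.2 hv
  replace hn : x ^ n = v := hn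
  rw [← hn, pow_eq_pow_mod n h3]
  rcases (show n % 3 = 0 ∨ n % 3 = 1 ∨ n % 3 = 2 by omega) with h | h | h <;> rw [h]
  · exact Or.inl (pow_zero _)
  · exact Or.inr (Or.inl (pow_one _))
  · exact Or.inr (Or.inr (eq_inv_of_mul_eq_one_left (by rw [← pow_succ, h3])))

theorem cube_J {j : G} (hj : j ∈ D.J) : j ^ 3 = 1 := by
  obtain ⟨f, hf, b, hb, rfl⟩ := mem_J D hj
  obtain ⟨n, rfl⟩ := mem_zpowers_iff.1 hb
  rw [((a_comm_FF D hf).zpow_left n).symm.mul_pow, cubeQ D (FF_le D hf), one_mul,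
    ← zpow_natCast (D.a ^ n) 3, ← zpow_mul, mul_comm, zpow_mul, zpow_natCast, a3, one_zpow]

theorem fix_iff {x w : G} : x * w * x⁻¹ = w ↔ x ∈ centralizer ({w} : Set G) := by
  rw [mem_centralizer_singleton_iff, mul_inv_eq_iff_eq_mul]

theorem eps (P : Model D) {r c : ↥P.M} (hr : P.ψ r = sr) (hrt : Commute (r : G) D.t)
    (hc : P.ψ c = sc) : (c : G) * D.z * (c : G)⁻¹ = D.z⁻¹ := by
  have hcb : IsBlock (P.ψ c) := by rw [hc]; decide
  rcases P.toPre.block_z hcb with hcz | hcz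
  swap
  · exact hcz
  exfalso
  set z' := (r : G) * D.z * (r : G)⁻¹ with hz'
  have hzJ : z' ∈ D.J := conj_memJ (P.MN r.2) (z_mem_J D)
  have hz3 : z' ^ 3 = 1 := cube_J hzJ
  obtain ⟨a', ha', hza⟩ : ∃ a' ∈ ({D.a, D.a⁻¹} : Set G), z' = a' := by
    rcases swap_image P hr hrt with h | h
    exacts [⟨_, Or.inl rfl, h⟩, ⟨_, Or.inr rfl, h⟩]
  have hzQ : z' ∉ D.Q := by
    rcases ha' with h | h <;> rw [hza, h]
    exacts [D.a_notQ, a_inv_notQ D]
  -- the two fixed points and their product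
  set w := D.z * z' with hw
  have hwJ : w ∈ D.J := mul_mem (z_mem_J D) hzJ
  have hw1 : w ≠ 1 := by
    intro h
    exact hzQ (by rw [eq_inv_of_mul_eq_one_right h]; exact inv_mem D.zQ)
  have hwfix : ∀ {x y : ↥P.M}, P.ψ x = P.ψ y → (y : G) * w * (y : G)⁻¹ = w →
      (x : G) * w * (x : G)⁻¹ = w := fun h h' => (P.toPre.act h hwJ).trans h'
  have hrr : (r : G) * z' * (r : G)⁻¹ = D.z := by
    have h := P.toPre.act (m := r * r) (n := 1) (by rw [map_mul, hr, rel_facts.2.1, map_one])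
      (z_mem_J D)
    simpa [hz', mul_assoc] using h
  have hr_w : (r : G) * w * (r : G)⁻¹ = w := by
    rw [hw, cmul, hrr, ← hz']
    exact (J_comm D hzJ (z_mem_J D)).eq
  have hcz' : (c : G) * z' * (c : G)⁻¹ = z' := by
    have h := P.toPre.act (m := c * r) (n := r * c⁻¹) (by
      rw [map_mul, map_mul, map_inv, hc, hr]; decide) (z_mem_J D)
    have e : (c : G)⁻¹ * D.z * (c : G) = D.z := by nth_rw 1 [← hcz]; group
    calc (c : G) * z' * (c : G)⁻¹ = ((c * r : ↥P.M) : G) * D.z * ((c * r : ↥P.M) : G)⁻¹ := by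
          simp [hz', mul_assoc]
      _ = ((r * c⁻¹ : ↥P.M) : G) * D.z * ((r * c⁻¹ : ↥P.M) : G)⁻¹ := h
      _ = (r : G) * ((c : G)⁻¹ * D.z * (c : G)) * (r : G)⁻¹ := by simp [mul_assoc]
      _ = z' := by rw [e]
  have hc_w : (c : G) * w * (c : G)⁻¹ = w := by rw [hw, cmul, hcz, hcz']
  have ht_w : D.t * w * D.t⁻¹ = w :=
    mul_inv_eq_iff_eq_mul.2 (D.tz.mul_right ((hrt.symm.mul_right D.tz).mul_right
      hrt.symm.inv_right)).eq
  -- the elements fixing `w`
  set H : Subgroup (Perm (Fin 6)) :=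
    ((centralizer ({w} : Set G)).subgroupOf P.M).map P.ψ with hH
  have hmem : ∀ {p : Perm (Fin 6)}, p ∈ H → ∀ x : ↥P.M, P.ψ x = p →
      (x : G) * w * (x : G)⁻¹ = w := by
    rintro p ⟨y, hy, rfl⟩ x hx
    exact hwfix hx (fix_iff.2 hy)
  have hHr : sr ∈ H := ⟨r, fix_iff.1 hr_w, hr⟩
  have hHc : sc ∈ H := ⟨c, fix_iff.1 hc_w, hc⟩
  have hHu : su ∈ H := ⟨⟨D.t, P.tM⟩, fix_iff.1 ht_w, P.tu⟩
  have key : ∀ (σ : Perm (Fin 6)) (s : ↥P.M), Perm.sign σ = 1 → σ ^ 3 = 1 →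
      (s : G) * D.z * (s : G)⁻¹ = z' → (s : G) * z' * (s : G)⁻¹ = D.z →
      σ⁻¹ * su * σ ∈ H → σ⁻¹ * P.ψ s * σ ∈ H → σ ∈ H := by
    intro σ s hσ hσ3 hs hs' h1 h2
    obtain ⟨x, hx⟩ := P.surj σ hσ
    set v := (x : G) * w * (x : G)⁻¹ with hv
    have hvJ : v ∈ D.J := conj_memJ (P.MN x.2) hwJ
    have hy : ∀ y : ↥P.M, σ⁻¹ * P.ψ y * σ ∈ H → (y : G) * v * (y : G)⁻¹ = v := by
      intro y hy
      have h := hmem hy (x⁻¹ * y * x) (by rw [map_mul, map_mul, map_inv, hx])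
      calc (y : G) * v * (y : G)⁻¹
          = (x : G) * (((x⁻¹ * y * x : ↥P.M) : G) * w * ((x⁻¹ * y * x : ↥P.M) : G)⁻¹) *
              (x : G)⁻¹ := by simp [hv, mul_assoc]
        _ = v := by rw [h]
    have hvt : Commute D.t v :=
      mul_inv_eq_iff_eq_mul.1 (hy ⟨D.t, P.tM⟩ (by rw [P.tu]; exact h1))
    have hvs := hy s h2
    obtain ⟨ζ, hζ, hvc⟩ := mem_J_t D hvJ hvt
    obtain ⟨β, hβ, hvb⟩ : ∃ β ∈ zpowers z', v = ζ * β := by
      have ha1 : D.a ∈ zpowers z' := by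
        rcases ha' with h | h
        · rw [hza, h]; exact mem_zpowers _
        · rw [hza, h, zpowers_inv]; exact mem_zpowers _
      rcases hvc with h | h | h
      · exact ⟨1, one_mem _, by rw [h, mul_one]⟩
      · exact ⟨D.a, ha1, by rw [h, (zp_a D hζ).eq]⟩
      · exact ⟨D.a⁻¹, inv_mem ha1, by rw [h, (zp_a D hζ).inv_left.eq]⟩
    obtain ⟨n, rfl⟩ := mem_zpowers_iff.1 hζ
    obtain ⟨k, rfl⟩ := mem_zpowers_iff.1 hβ
    rw [hvb, cmul, ← conj_zpow, ← conj_zpow, hs, hs'] at hvs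
    have hdiff : z' ^ (n - k) ∈ D.Q := by
      have h' : z' ^ (n - k) = D.z ^ (n - k) := by
        have hc := (J_comm D (zpow_mem (z_mem_J D) n) (zpow_mem hzJ k)).eq
        rw [zpow_sub, zpow_sub]
        calc z' ^ n * (z' ^ k)⁻¹ = z' ^ n * D.z ^ k * ((D.z ^ k)⁻¹ * (z' ^ k)⁻¹) := by group
          _ = D.z ^ n * z' ^ k * ((z' ^ k)⁻¹ * (D.z ^ k)⁻¹) := by
            rw [hvs, ((J_comm D (zpow_mem (z_mem_J D) k) (zpow_mem hzJ k)).inv_inv).eq]
          _ = _ := by group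
      rw [h']; exact zpow_mem D.zQ _
    have hnk : z' ^ (n - k) = 1 := by
      rcases zp_cases hz3 (zpow_mem (mem_zpowers z') (n - k)) with h | h | h
      · exact h
      · exact absurd (h ▸ hdiff) hzQ
      · exact absurd (inv_mem_iff.1 (h ▸ hdiff)) hzQ
    have hv' : v ∈ zpowers w := by
      refine mem_zpowers_iff.2 ⟨n, ?_⟩
      rw [hvb, hw, (J_comm D (z_mem_J D) hzJ).mul_zpow]
      congr 1
      rw [zpow_sub, mul_inv_eq_one] at hnk
      exact hnk
    refine ⟨x, fix_iff.1 ?_, hx⟩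
    show (x : G) * w * (x : G)⁻¹ = w
    rw [← hv]
    rcases zp_cases (cube_J hwJ) hv' with h | h | h
    · exact absurd (conj_eq_one_iff.1 h) hw1
    · exact h
    · exfalso
      have h3 : ((x : G) ^ 3) * w * ((x : G) ^ 3)⁻¹ = w := by
        have := hwfix (x := x ^ 3) (y := 1) (by rw [map_pow, hx, hσ3, map_one]) (by simp)
        simpa using this
      have e : ((x : G) ^ 3) * w * ((x : G) ^ 3)⁻¹ = w⁻¹ := by
        have e1 : (x : G) * w * (x : G)⁻¹ = w⁻¹ := h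
        calc ((x : G) ^ 3) * w * ((x : G) ^ 3)⁻¹
            = (x : G) * ((x : G) * ((x : G) * w * (x : G)⁻¹) * (x : G)⁻¹) * (x : G)⁻¹ := by
              rw [pow_succ, pow_two]; group
          _ = w⁻¹ := by rw [e1, ← conj_inv, e1, inv_inv, e1]
      rw [h3] at e
      have hw3 := cube_J hwJ
      have h2 : w * w = 1 := by nth_rw 2 [e]; exact mul_inv_cancel _
      rw [pow_succ, pow_two, h2, one_mul] at hw3
      exact hw1 hw3
  have hHk : sk ∈ H := by
    refine key sk r sign_facts.2.2.2.2.2.1 rel_facts.2.2.2.2.2.2.2.1 rfl hrr ?_ ?_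
    · rw [rel_facts.2.2.2.2.2.2.2.2.2.1]; exact mul_mem hHu hHr
    · rw [hr, rel_facts.2.2.2.2.2.2.2.2.2.2.1]; exact hHu
  have hHl : sl ∈ H := by
    have h1 : ((r * c : ↥P.M) : G) * D.z * ((r * c : ↥P.M) : G)⁻¹ = z' := by
      calc _ = (r : G) * ((c : G) * D.z * (c : G)⁻¹) * (r : G)⁻¹ := by simp [mul_assoc]
        _ = z' := by rw [hcz]
    have h2 : ((r * c : ↥P.M) : G) * z' * ((r * c : ↥P.M) : G)⁻¹ = D.z := by
      calc _ = (r : G) * ((c : G) * z' * (c : G)⁻¹) * (r : G)⁻¹ := by simp [mul_assoc]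
        _ = D.z := by rw [hcz', hrr]
    refine key sl (r * c) sign_facts.2.2.2.2.2.2 rel_facts.2.2.2.2.2.2.2.2.1 h1 h2 ?_ ?_
    all_goals
      have hrc : sr * sc ∈ H := mul_mem hHr hHc
      first
      | (have h := sl_facts su (Or.inl rfl)
         simp only [List.mem_cons, List.not_mem_nil, or_false] at h
         rcases h with h | h | h <;> rw [h]
         exacts [hHu, hrc, mul_mem hHu hrc])
      | (rw [map_mul, hr, hc]
         have h := sl_facts _ (Or.inr rfl)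
         simp only [List.mem_cons, List.not_mem_nil, or_false] at h
         rcases h with h | h | h <;> rw [h]
         exacts [hHu, hrc, mul_mem hHu hrc])
  have hsa : sa ∈ H := by
    rw [rel_facts.2.2.2.2.2.2.2.2.2.2.2.1]
    exact mul_mem (mul_mem (mul_mem hHc hHk) hHl) hHk
  have hsb : sb ∈ H := by
    rw [rel_facts.2.2.2.2.2.2.2.2.2.2.2.2]
    exact mul_mem (mul_mem (mul_mem (mul_mem (mul_mem hHk hHr) hHl) hHr) hHk) hHk
  have hwZ : w ∈ zpowers D.z := by
    refine mem_J_centQ D hwJ fun q hq => ?_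
    have h1 := (P.memS ⟨q, P.SM (Q_le_SS D hq)⟩).1 (Q_le_SS D hq)
    have h2 : P.ψ ⟨q, P.SM (Q_le_SS D hq)⟩ ∈ H := by
      simp only [pList, List.mem_cons, List.not_mem_nil, or_false] at h1
      rcases h1 with h | h | h | h | h | h | h | h | h <;> rw [h]
      exacts [one_mem _, hsa, mul_mem hsa hsa, hsb, mul_mem hsa hsb,
        mul_mem (mul_mem hsa hsa) hsb, mul_mem hsb hsb, mul_mem hsa (mul_mem hsb hsb),
        mul_mem (mul_mem hsa hsa) (mul_mem hsb hsb)]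
    exact (mul_inv_eq_iff_eq_mul.1 (hmem h2 _ rfl)).symm
  refine hzQ ?_
  rw [show z' = D.z⁻¹ * w by rw [hw]; group]
  exact mul_mem (inv_mem D.zQ) (zp_le D hwZ)

theorem exists_sel (P : Model D) : Nonempty (Sel D) := by
  have _ : Fact (Nat.Prime 3) := ⟨Nat.prime_three⟩
  obtain ⟨r, hr, hrt⟩ := lift P sr sign_facts.2.2.2.1 rel_facts.2.2.2.2.2.1
  obtain ⟨c, hc, hct⟩ := lift P sc sign_facts.2.2.1 rel_facts.2.2.2.2.2.2.1
  have hcz := eps P hr hrt hc
  set z' := (r : G) * D.z * (r : G)⁻¹ with hz'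
  have hcz' : (c : G) * z' * (c : G)⁻¹ = z'⁻¹ := by
    have h := P.toPre.act (m := c * r) (n := r * c⁻¹) (by
      rw [map_mul, map_mul, map_inv, hc, hr]; decide) (z_mem_J D)
    have e : (c : G)⁻¹ * D.z * (c : G) = D.z⁻¹ := by
      have h1 : (c : G) * D.z⁻¹ * (c : G)⁻¹ = D.z := by rw [← conj_inv, hcz, inv_inv]
      nth_rw 1 [← h1]; group
    calc (c : G) * z' * (c : G)⁻¹ = ((c * r : ↥P.M) : G) * D.z * ((c * r : ↥P.M) : G)⁻¹ := by
          simp [hz', mul_assoc]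
      _ = ((r * c⁻¹ : ↥P.M) : G) * D.z * ((r * c⁻¹ : ↥P.M) : G)⁻¹ := h
      _ = (r : G) * ((c : G)⁻¹ * D.z * (c : G)) * (r : G)⁻¹ := by simp [mul_assoc]
      _ = z'⁻¹ := by rw [e, ← conj_inv]
  obtain ⟨g, hgt, hg, hga⟩ : ∃ g : ↥P.M, Commute (g : G) D.t ∧
      (P.ψ g = sr ∨ P.ψ g = sr * sc) ∧ (g : G) * D.z * (g : G)⁻¹ = D.a := by
    rcases swap_image P hr hrt with h | h
    · exact ⟨r, hrt, Or.inl hr, h⟩
    · refine ⟨r * c, hrt.mul_left hct, Or.inr (by rw [map_mul, hr, hc]), ?_⟩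
      calc ((r * c : ↥P.M) : G) * D.z * ((r * c : ↥P.M) : G)⁻¹
          = (r : G) * ((c : G) * D.z * (c : G)⁻¹) * (r : G)⁻¹ := by simp [mul_assoc]
        _ = D.a := by rw [hcz, ← conj_inv, h, inv_inv]
  have hgg : P.ψ (g * g) = 1 := by
    rcases hg with h | h <;> rw [map_mul, h]
    exacts [rel_facts.2.1, rel_facts.2.2.2.1]
  have hca : (c : G) * D.a * (c : G)⁻¹ = D.a⁻¹ := by
    rcases swap_image P hr hrt with h | h
    · rw [← h]; exact hcz'
    · rw [← hz'] at h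
      rw [show D.a = z'⁻¹ by rw [h, inv_inv], ← conj_inv, hcz']
  obtain ⟨k, hkK, hka, hk1, hk2, hkc⟩ := exists_k (D := D)
  have hcb : IsBlock (P.ψ c) := by rw [hc]; decide
  refine ⟨{
    c := c, g := g, k := k, ct := hct, gt := hgt,
    kt := mem_centralizer_singleton_iff.1 hkK.2,
    cJ := P.MN c.2, gJ := P.MN g.2,
    cQ := normQ D (Or.inr hcz),
    cz := hcz, ca := hca, gz := hga, ga := ?_, cc := ?_, gg := (P.ker (g * g)).1 hgg, gc := ?_,
    fusion := ?_, kz := mem_centralizer_singleton_iff.1 hkK.1, ka := hka,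
    k_even := ⟨hkK, hk1, hk2, hkc⟩ }⟩
  · have h := P.toPre.act (m := g * g) (n := 1) (by rw [hgg, map_one]) (z_mem_J D)
    nth_rw 1 [← hga]
    simpa [mul_assoc] using h
  · refine (P.ker (c * c * ⟨D.t, P.tM⟩)).1 ?_
    rw [map_mul, map_mul, hc, rel_facts.1, P.tu]; decide
  · refine (P.ker (g * c * g⁻¹ * c)).1 ?_
    rw [map_mul, map_mul, map_mul, map_inv, hc]
    rcases hg with h | h <;> rw [h]
    exacts [rel_facts.2.2.1, rel_facts.2.2.2.2.1]
  · intro h hht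
    suffices ∀ ζ b : G, (ζ = D.z ∨ ζ = D.z⁻¹) → (b = D.a ∨ b = D.a⁻¹) →
        h * D.z * h⁻¹ ≠ ζ * b from
      ⟨this _ _ (Or.inl rfl) (Or.inl rfl), this _ _ (Or.inl rfl) (Or.inr rfl),
        this _ _ (Or.inr rfl) (Or.inl rfl), this _ _ (Or.inr rfl) (Or.inr rfl)⟩
    intro ζ b hζ hb hy
    have hζz : ζ ∈ zpowers D.z := by
      rcases hζ with rfl | rfl
      exacts [mem_zpowers _, inv_mem (mem_zpowers _)]
    have hζ1 : ζ ≠ 1 := by
      rcases hζ with rfl | rfl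
      exacts [z_ne D, inv_ne_one.2 (z_ne D)]
    have hbQ : b ∉ D.Q := by
      rcases hb with rfl | rfl
      exacts [D.a_notQ, a_inv_notQ D]
    set y := h * D.z * h⁻¹ with hydef
    have hyJ : y ∈ D.J := by
      rw [hy]
      refine mul_mem (FF_le_J D (zp_FF D hζz)) ?_
      rcases hb with rfl | rfl
      exacts [a_mem_J D, inv_mem (a_mem_J D)]
    have hyt : Commute y D.t := (hht.mul_left D.tz.symm).mul_left hht.inv_left
    -- `J` pulled back by `h` lies in the centraliser of `z`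
    set J' : Subgroup G := D.J.map (MulAut.conj h⁻¹).toMonoidHom with hJ'
    have hJ'C : J' ≤ centralizer ({D.z} : Set G) := by
      rintro _ ⟨j, hj, rfl⟩
      rw [mem_centralizer_singleton_iff]
      have h1 := (J_comm D hj hyJ).map (MulAut.conj h⁻¹)
      have e : (MulAut.conj h⁻¹) y = D.z := by rw [hydef, MulAut.conj_apply]; group
      rw [e] at h1
      exact h1.eq
    have hJ'p : IsPGroup 3 ↥J' := (IsPGroup.of_card (n := 4) (by rw [P.cardJ]; rfl)).map _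
    set C : Subgroup G := centralizer ({D.z} : Set G) with hC
    have hSC : SS D ≤ C := sup_le D.cQ (zpowers_le.2 (mem_centralizer_singleton_iff.2 D.za.symm.eq))
    obtain ⟨A, hA⟩ := ((SS_pgroup D).of_equiv (subgroupOfEquivOfLe hSC).symm).exists_le_sylow
    obtain ⟨B, hB⟩ := (hJ'p.of_equiv (subgroupOfEquivOfLe hJ'C).symm).exists_le_sylow
    have eA : SS D = (A : Subgroup ↥C).map C.subtype := by
      refine eq_of_le_of_card_ge (fun s hs => ⟨⟨s, hSC hs⟩, hA hs, rfl⟩) ?_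
      rw [card_SS]
      exact p_le_729 D (A.2.map _)
    obtain ⟨x, hx⟩ := MulAction.exists_smul_eq ↥C B A
    have hsub : J'.map (MulAut.conj (x : G)).toMonoidHom ≤ SS D := by
      rintro _ ⟨j, hj, rfl⟩
      rw [eA, ← hx, Sylow.coe_subgroup_smul]
      exact ⟨x * ⟨j, hJ'C hj⟩ * x⁻¹, ⟨⟨j, hJ'C hj⟩, hB hj, rfl⟩, rfl⟩
    have hmap : (D.J.map (MulAut.conj ((x : G) * h⁻¹)).toMonoidHom) = D.J := by
      refine unique_abelian D ?_ ?_ ?_ P.cardJ
      · refine le_trans (le_of_eq ?_) hsub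
        rw [hJ', map_map]
        congr 1
        ext v
        simp [MulAut.conj_apply, mul_assoc]
      · rintro _ ⟨u, hu, rfl⟩ _ ⟨v, hv, rfl⟩
        exact (J_comm D hu hv).map _
      · refine Eq.trans ?_ P.cardJ
        exact (Nat.card_congr (D.J.equivMapOfInjective _
          (MulAut.conj ((x : G) * h⁻¹)).injective).toEquiv).symm
    have hxh : (x : G) * h⁻¹ ∈ normalizer (D.J : Set G) := mem_normalizer_iff_map_conj_eq.2 hmap
    obtain ⟨n, hn⟩ := orbit P (inv_mem hxh)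
    have hxz : (x : G)⁻¹ * D.z * (x : G) = D.z := by
      have := mem_centralizer_singleton_iff.1 x.2
      rw [mul_assoc, ← this]; group
    have ey : ((x : G) * h⁻¹)⁻¹ * D.z * ((x : G) * h⁻¹)⁻¹⁻¹ = y := by
      calc _ = h * ((x : G)⁻¹ * D.z * (x : G)) * h⁻¹ := by group
        _ = y := by rw [hxz]
    rw [ey] at hn
    have hcase : y ∈ zpowers D.z ∨ y ∈ zpowers D.a := by
      have hza : ∀ v ∈ zpowers z', v ∈ zpowers D.a := by
        intro v hv
        rcases swap_image P hr hrt with e | e <;> rw [← hz'] at e <;> rw [e] at hv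
        · exact hv
        · rwa [zpowers_inv] at hv
      rcases hn with e | e
      · rw [e] at hyt ⊢
        exact (classify P hr hyt).imp_right (hza _)
      · rw [e, ← conj_inv] at hyt
        rw [e, ← conj_inv, inv_mem_iff, inv_mem_iff]
        exact (classify P hr (Commute.inv_left_iff.1 hyt)).imp_right (hza _)
    rcases hcase with h1 | h1
    · rw [hy] at h1
      exact hbQ (by simpa using mul_mem (inv_mem (zp_le D hζz)) (zp_le D h1))
    · rw [hy] at h1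
      have hb' : b ∈ zpowers D.a := by
        rcases hb with rfl | rfl
        exacts [mem_zpowers _, inv_mem (mem_zpowers _)]
      have h2 : ζ ∈ zpowers D.a := by simpa using mul_mem h1 (inv_mem hb')
      rcases a_pow_cases D h2 with e | e | e
      · exact hζ1 e
      · exact D.a_notQ (e ▸ zp_le D hζz)
      · exact a_inv_notQ D (e ▸ zp_le D hζz)

end CfsgLib.McLThree.Six
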