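import Cfsg.Agent.Lib.McLThree.Six.Frame

/-!
The action of the normalizer of `J` on `J` near `z` and `t`.
-/

set_option autoImplicit false
set_option linter.unusedSectionVars false

namespace CfsgLib.McLThree.Six

open Subgroup Equiv

universe u

variable {G : Type u} [Group G] [Finite G] {D : Top G} (P : Pre D)

theorem conj_memJ {h j : G} (hh : h ∈ normalizer (D.J : Set G)) (hj : j ∈ D.J) :
    h * j * h⁻¹ ∈ D.J := (mem_normalizer_iff.1 hh j).1 hj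

theorem conj_FF {h f : G} (hJ : h ∈ normalizer (D.J : Set G))
    (hQ : h ∈ normalizer (D.Q : Set G)) (hf : f ∈ FF D) : h * f * h⁻¹ ∈ FF D :=
  mem_FF_of_commJ D (conj_memJ hJ (FF_le_J D hf)) (conj_memQ D hQ (FF_le D hf))

theorem conj_a_cases {h : G} (hJ : h ∈ normalizer (D.J : Set G))
    (hQ : h ∈ normalizer (D.Q : Set G)) :
    ∃ f ∈ FF D, h * D.a * h⁻¹ = D.a * f ∨ h * D.a * h⁻¹ = D.a⁻¹ * f := by
  rcases mem_J_cases D (conj_memJ hJ (a_mem_J D)) with h1 | ⟨f, hf, he⟩ | ⟨f, hf, he⟩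
  · exfalso
    refine D.a_notQ ?_
    have := (mem_normalizer_iff.1 hQ D.a).2 (FF_le D h1)
    exact this
  · exact ⟨f, hf, Or.inl he⟩
  · exact ⟨f, hf, Or.inr he⟩

theorem normJ_of {h : G} (hQ : h ∈ normalizer (D.Q : Set G))
    (ha : h * D.a * h⁻¹ = D.a ∨ h * D.a * h⁻¹ = D.a⁻¹) : h ∈ normalizer (D.J : Set G) := by
  refine mem_normalizer_fintype fun x hx => ?_
  obtain ⟨f, hf, b, hb, rfl⟩ := mem_J D hx
  rw [cmul]
  refine mul_mem (FF_le_J D ((mem_FF D).2 ⟨conj_memQ D hQ (FF_le D hf), ?_⟩)) ?_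
  · have h1 : Commute (h * D.a * h⁻¹) (h * f * h⁻¹) := (a_comm_FF D hf).map (MulAut.conj h)
    rcases ha with e | e <;> rw [e] at h1
    · exact h1
    · exact Commute.inv_left_iff.1 h1
  · obtain ⟨n, rfl⟩ := mem_zpowers_iff.1 hb
    rw [← conj_zpow]
    refine zpow_mem ?_ n
    rcases ha with e | e <;> rw [e]
    · exact a_mem_J D
    · exact inv_mem (a_mem_J D)

theorem normSS_of {h : G} (hJ : h ∈ normalizer (D.J : Set G))
    (hQ : h ∈ normalizer (D.Q : Set G)) : h ∈ normalizer (SS D : Set G) := by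
  refine mem_normalizer_fintype fun x hx => ?_
  obtain ⟨q, hq, b, hb, rfl⟩ := mem_SS D hx
  rw [cmul]
  exact mul_mem (Q_le_SS D (conj_memQ D hQ hq))
    (J_le_SS D (conj_memJ hJ (le_sup_right (a := D.Q ⊓ centralizer ({D.a} : Set G)) hb)))

/-- The centre of `SS` in `J` is kept. -/
theorem norm_z {h : G} (hJ : h ∈ normalizer (D.J : Set G))
    (hS : h ∈ normalizer (SS D : Set G)) : h * D.z * h⁻¹ = D.z ∨ h * D.z * h⁻¹ = D.z⁻¹ := by
  have hc : ∀ s ∈ SS D, Commute D.z s := by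
    intro s hs
    obtain ⟨q, hq, b, hb, rfl⟩ := mem_SS D hs
    obtain ⟨n, rfl⟩ := mem_zpowers_iff.1 hb
    exact (z_commQ D hq).mul_right (D.za.zpow_right n)
  have h1 : h * D.z * h⁻¹ ∈ zpowers D.z := by
    refine mem_J_centQ D (conj_memJ hJ (z_mem_J D)) fun q hq => ?_
    have h2 := (mem_normalizer_iff.1 (inv_mem hS) q).1 (Q_le_SS D hq)
    have h3 : Commute (h * D.z * h⁻¹) (h * (h⁻¹ * q * h⁻¹⁻¹) * h⁻¹) :=
      (hc _ h2).map (MulAut.conj h)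
    rwa [show h * (h⁻¹ * q * h⁻¹⁻¹) * h⁻¹ = q by group] at h3
  obtain ⟨n, hn⟩ := mem_powers_iff_mem_zpowers.2 h1
  replace hn : D.z ^ n = h * D.z * h⁻¹ := hn
  rw [← hn, ← pow_mod_orderOf, D.ord_z]
  rcases (show n % 3 = 0 ∨ n % 3 = 1 ∨ n % 3 = 2 by omega) with e | e | e <;> rw [e]
  · exfalso
    rw [← pow_mod_orderOf, D.ord_z, e, pow_zero] at hn
    exact z_ne D (conj_eq_one_iff.1 hn.symm)
  · exact Or.inl (pow_one _)
  · exact Or.inr (eq_inv_of_mul_eq_one_left (by rw [← pow_succ, z3]))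

namespace Pre

theorem act {m n : ↥P.M} (h : P.ψ m = P.ψ n) {j : G} (hj : j ∈ D.J) :
    (m : G) * j * (m : G)⁻¹ = (n : G) * j * (n : G)⁻¹ := by
  have h1 : P.ψ (n⁻¹ * m) = 1 := by rw [map_mul, map_inv, h, inv_mul_cancel]
  have h2 := (P.ker _).1 h1
  have h3 : ((n⁻¹ * m : ↥P.M) : G) * j * ((n⁻¹ * m : ↥P.M) : G)⁻¹ = j :=
    mul_inv_eq_iff_eq_mul.2 (J_comm D h2 hj).eq
  calc (m : G) * j * (m : G)⁻¹
      = (n : G) * (((n⁻¹ * m : ↥P.M) : G) * j * ((n⁻¹ * m : ↥P.M) : G)⁻¹) * (n : G)⁻¹ := by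
        simp [mul_assoc]
    _ = _ := by rw [h3]

theorem normSS_iff {m : ↥P.M} :
    (m : G) ∈ normalizer (SS D : Set G) ↔ IsBlock (P.ψ m) := by
  constructor
  · intro hm
    have key : ∀ y ∈ pList, P.ψ m * y * (P.ψ m)⁻¹ ∈ pList := by
      intro y hy
      obtain ⟨s, hs⟩ := P.surj y (pList_closed.2.2.2.2.2 y hy)
      have hsS : (s : G) ∈ SS D := (P.memS s).2 (hs ▸ hy)
      have h1 : ((m * s * m⁻¹ : ↥P.M) : G) ∈ SS D := by
        simpa using (mem_normalizer_iff.1 hm _).1 hsS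
      have h2 := (P.memS _).1 h1
      rwa [map_mul, map_mul, map_inv, hs] at h2
    exact block_of_conj _ (key sa mem_pList_conj.1) (key sb mem_pList_conj.2.1)
  · intro hm
    refine mem_normalizer_fintype fun x hx => ?_
    have h1 : (m * ⟨x, P.SM hx⟩ * m⁻¹ : ↥P.M).1 ∈ SS D := by
      rw [P.memS, map_mul, map_mul, map_inv]
      exact conj_of_block _ hm _ ((P.memS _).1 hx)
    simpa using h1

theorem M_normJ (m : ↥P.M) : (m : G) ∈ normalizer (D.J : Set G) := P.MN m.2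

theorem M_normQ {m : ↥P.M} (hm : IsBlock (P.ψ m)) : (m : G) ∈ normalizer (D.Q : Set G) :=
  normQ D (norm_z (P.M_normJ m) (P.normSS_iff.2 hm))

theorem block_z {m : ↥P.M} (hm : IsBlock (P.ψ m)) :
    (m : G) * D.z * (m : G)⁻¹ = D.z ∨ (m : G) * D.z * (m : G)⁻¹ = D.z⁻¹ :=
  norm_z (P.M_normJ m) (P.normSS_iff.2 hm)

theorem t_normJ : D.t ∈ normalizer (D.J : Set G) :=
  normJ_of (normQ D (Or.inl (mul_inv_eq_iff_eq_mul.2 D.tz.eq)))
    (Or.inl (mul_inv_eq_iff_eq_mul.2 D.ta.eq))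

theorem t_mem : D.t ∈ P.M := by
  obtain ⟨m₀, hm₀⟩ := P.surj sc sign_facts.2.2.1
  have hb : IsBlock (P.ψ m₀) := by rw [hm₀]; decide
  set uM : ↥P.M := m₀ * m₀ with huM
  set v : G := (uM : G) with hv
  have hu : P.ψ uM = su := by rw [huM, map_mul, hm₀, rel_facts.1]
  have hub : IsBlock (P.ψ uM) := by rw [hu]; decide
  have huQ := P.M_normQ hub
  have huJ := P.M_normJ uM
  have huz : v * D.z * v⁻¹ = D.z := by
    have e : v * D.z * v⁻¹ = (m₀ : G) * ((m₀ : G) * D.z * (m₀ : G)⁻¹) * (m₀ : G)⁻¹ := by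
      simp [hv, huM]; group
    rw [e]
    rcases P.block_z hb with h | h
    · rw [h, h]
    · rw [h, ← conj_inv, h, inv_inv]
  have huq : ∀ q ∈ D.Q, v * q * v⁻¹ * q ∈ FF D := by
    intro q hq
    have hqM : q ∈ P.M := P.SM (Q_le_SS D hq)
    have h1 : P.ψ (uM * ⟨q, hqM⟩ * uM⁻¹ * ⟨q, hqM⟩) = 1 := by
      rw [map_mul, map_mul, map_mul, map_inv, hu,
        mem_pList_conj.2.2.2.1 _ ((P.memS ⟨q, hqM⟩).1 (Q_le_SS D hq)), inv_mul_cancel]
    have h2 : v * q * v⁻¹ * q ∈ D.J := by simpa using (P.ker _).1 h1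
    exact mem_FF_of_commJ D h2 (mul_mem (conj_memQ D huQ hq) hq)
  set w : G := v⁻¹ * D.t with hw
  have htQ : D.t ∈ normalizer (D.Q : Set G) :=
    normQ D (Or.inl (mul_inv_eq_iff_eq_mul.2 D.tz.eq))
  have hwQ : w ∈ normalizer (D.Q : Set G) := mul_mem (inv_mem huQ) htQ
  have hwJ : w ∈ normalizer (D.J : Set G) := mul_mem (inv_mem huJ) t_normJ
  have hwz : w * D.z * w⁻¹ = D.z := by
    calc w * D.z * w⁻¹ = v⁻¹ * (D.t * D.z * D.t⁻¹) * v := by rw [hw]; group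
      _ = v⁻¹ * (v * D.z * v⁻¹) * v := by rw [mul_inv_eq_iff_eq_mul.2 D.tz.eq, huz]
      _ = D.z := by group
  have hwq : ∀ q ∈ D.Q, w * q * w⁻¹ * q⁻¹ ∈ FF D := by
    intro q hq
    set p := v⁻¹ * q⁻¹ * v with hp
    have hpQ : p ∈ D.Q := by
      have := conj_memQ D (inv_mem huQ) (inv_mem hq)
      rwa [inv_inv] at this
    have h1 : q⁻¹ * p ∈ FF D := by
      have := huq p hpQ
      rwa [show v * p * v⁻¹ = q⁻¹ by rw [hp]; group] at this
    have h2 : p * q⁻¹ ∈ FF D := by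
      rw [show p * q⁻¹ = q * (q⁻¹ * p) * q⁻¹ by group, conjQ_eq D hq (FF_le D h1)]
      exact mul_mem (zp_FF D (com_mem D hq (FF_le D h1))) h1
    set ζ := D.t * q * D.t⁻¹ * q with hζ
    have h3 : w * q * w⁻¹ * q⁻¹ = (v⁻¹ * ζ * v) * (p * q⁻¹) := by rw [hw, hζ, hp]; group
    rw [h3]
    refine mul_mem (zp_FF D ?_) h2
    obtain ⟨n, hn⟩ := mem_zpowers_iff.1 (D.tQ q hq)
    rw [← hζ] at hn
    have e : v⁻¹ * D.z * v = D.z := by nth_rw 1 [← huz]; group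
    rw [← hn, show v⁻¹ * D.z ^ n * v = (v⁻¹ * D.z * v) ^ n by
      simpa using (conj_zpow (a := v⁻¹) (b := D.z) (i := n)).symm]
    rw [e]; exact zpow_mem (mem_zpowers _) n
  have hwa : w * D.a * w⁻¹ * D.a⁻¹ ∈ FF D := by
    obtain ⟨f, hf, h | h⟩ := conj_a_cases hwJ hwQ
    · rw [h, (a_comm_FF D hf).eq, mul_inv_cancel_right]; exact hf
    · exact absurd (((grade D hwQ hf).2 h hwq).symm.trans hwz) (z_inv_ne D)
  obtain ⟨ca, cf⟩ := cube_fix D hwQ hwz hwa hwq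
  have hcJ : ∀ j ∈ D.J, Commute (w ^ 3) j := by
    intro j hj
    obtain ⟨f, hf, b, hb', rfl⟩ := mem_J D hj
    obtain ⟨n, rfl⟩ := mem_zpowers_iff.1 hb'
    exact (cf f hf).mul_right (ca.zpow_right n)
  obtain ⟨k, m, hm, hkm⟩ : ∃ k m, ¬ 3 ∣ m ∧ orderOf (w ^ 3) = 3 ^ k * m :=
    Nat.exists_eq_pow_mul_and_not_dvd (orderOf_pos _).ne' 3 (by norm_num)
  have hm1 : (w ^ 3) ^ 3 ^ k = 1 := by
    refine centJ_coprime D (fun j hj => (hcJ j hj).pow_left _) ?_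
    rwa [orderOf_pow_of_dvd (by positivity) ⟨m, hkm⟩, hkm, Nat.mul_div_cancel_left _ (by positivity)]
  have hwp : IsPGroup 3 ↥(zpowers w) := by
    rintro ⟨x, hx⟩
    obtain ⟨n, rfl⟩ := mem_zpowers_iff.1 hx
    refine ⟨k + 1, Subtype.ext ?_⟩
    show (w ^ n) ^ 3 ^ (k + 1) = 1
    rw [← zpow_natCast, ← zpow_mul, mul_comm, zpow_mul, zpow_natCast, pow_succ', pow_mul, hm1,
      one_zpow]
  have hwM : w ∈ P.M := P.three _ hwp (zpowers_le.2 hwJ) (mem_zpowers _)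
  rw [show D.t = v * w by rw [hw]; group]
  exact mul_mem uM.2 hwM

end Pre

/-- The identification normalised at `t`. -/
structure Model (D : Top G) extends Pre D where
  tM : D.t ∈ M
  tu : ψ ⟨D.t, tM⟩ = su

theorem exists_model {Z J Q : Subgroup G} (h : Hyp G Z J Q) (hJ : D.J = J) :
    Nonempty (Model D) := by
  obtain ⟨P⟩ := exists_pre h D hJ
  have htM := P.t_mem
  set x := P.ψ ⟨D.t, htM⟩ with hx
  have hxx : x * x = 1 := by
    rw [hx, ← map_mul, show (⟨D.t, htM⟩ : ↥P.M) * ⟨D.t, htM⟩ = 1 from Subtype.ext (tt D),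
      map_one]
  have hx1 : x ≠ 1 := fun e => by
    have hJ' : D.t ∈ D.J := (P.ker _).1 e
    obtain ⟨f, hf, b, hb, he⟩ := mem_J D hJ'
    obtain ⟨n, rfl⟩ := mem_zpowers_iff.1 hb
    have h3 : D.t ^ 3 = 1 := by
      rw [he, ((a_comm_FF D hf).zpow_left n).symm.mul_pow, cubeQ D (FF_le D hf), one_mul,
        ← zpow_natCast (D.a ^ n) 3, ← zpow_mul, mul_comm, zpow_mul, zpow_natCast, a3, one_zpow]
    rw [pow_succ, pow_two, tt D, one_mul] at h3
    have := D.ord_t; rw [h3, orderOf_one] at this; omega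
  have hb : IsBlock x := P.normSS_iff.1
    (normSS_of (Pre.t_normJ) (normQ D (Or.inl (mul_inv_eq_iff_eq_mul.2 D.tz.eq))))
  obtain ⟨p, hp, hpx⟩ := involution_block x (P.even _) hxx hx1 hb
  refine ⟨{ M := P.M, JM := P.JM, MN := P.MN, NM := P.NM, cardJ := P.cardJ, three := P.three,
            SM := P.SM, ψ := (MulAut.conj p).toMonoidHom.comp P.ψ, even := ?_, surj := ?_,
            ker := ?_, memS := ?_, tM := htM, tu := hpx }⟩
  · intro m
    show Perm.sign (p * P.ψ m * p⁻¹) = 1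
    simp [P.even m]
  · intro y hy
    obtain ⟨m, hm⟩ := P.surj (p⁻¹ * y * p) (by simp [hy])
    refine ⟨m, ?_⟩
    show p * P.ψ m * p⁻¹ = y
    rw [hm]; group
  · intro m
    show p * P.ψ m * p⁻¹ = 1 ↔ _
    rw [conj_eq_one_iff]; exact P.ker m
  · intro m
    show _ ↔ p * P.ψ m * p⁻¹ ∈ pList
    rw [P.memS, ← mem_pGrp, ← mem_pGrp,
      pGrp.mul_mem_cancel_right (inv_mem (mem_pGrp.2 hp)),
      pGrp.mul_mem_cancel_left (mem_pGrp.2 hp)]

end CfsgLib.McLThree.Six
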